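import Cfsg.Agent.Lib.FixedHalf.Blocks
import Mathlib.RingTheory.Artinian.Ring
import Mathlib.RingTheory.Adjoin.Basic

/-!
Abelian normal subgroups of an irreducible linear group and fixed spaces.
-/

set_option autoImplicit false

namespace Cfsg.Agent.FixedHalf

open Subgroup

variable {G : Type*} [Group G] [Finite G]
  {k V : Type*} [Field k] [AddCommGroup V] [Module k V] [FiniteDimensional k V]

omit [Finite G] [FiniteDimensional k V] in
theorem conj_conj (ρ : G →* Module.End k V) (g : G) (a b : Module.End k V) :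
    (ρ g * a * ρ g⁻¹) * (ρ g * b * ρ g⁻¹) = ρ g * (a * b) * ρ g⁻¹ := by
  have h : ρ g⁻¹ * ρ g = 1 := by rw [← map_mul, inv_mul_cancel, map_one]
  calc (ρ g * a * ρ g⁻¹) * (ρ g * b * ρ g⁻¹) = ρ g * a * (ρ g⁻¹ * ρ g) * b * ρ g⁻¹ := by
        simp only [mul_assoc]
    _ = _ := by rw [h, mul_one]; simp only [mul_assoc]

/-- An abelian normal subgroup of a finite irreducible group spans a field, or the fixed space of
a generating element of prime order is small. -/
theorem bound_or_isField [Group.IsSolvable G] (ρ : G →* Module.End k V)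
    (hirr : ∀ W : Submodule k V, (∀ g, ∀ v ∈ W, ρ g v ∈ W) → W = ⊥ ∨ W = ⊤) [Nontrivial V]
    {p : ℕ} (hp : p.Prime) (hp5 : 5 ≤ p) {x : G} (hx : x ^ p = 1)
    (hgen : normalClosure ({x} : Set G) = ⊤) (A : Subgroup G) [A.Normal]
    (hab : ∀ a ∈ A, ∀ b ∈ A, a * b = b * a) :
    2 * Module.finrank k (LinearMap.ker (ρ x - 1)) < Module.finrank k V ∨
      IsField ↥(Algebra.adjoin k (ρ '' (A : Set G))) := by
  classical
  have := Fintype.ofFinite G
  set R := Algebra.adjoin k (ρ '' (A : Set G)) with hR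
  have hcomm : ∀ a ∈ ρ '' (A : Set G), ∀ b ∈ ρ '' (A : Set G), a * b = b * a := by
    rintro _ ⟨a, ha, rfl⟩ _ ⟨b, hb, rfl⟩
    rw [← map_mul, ← map_mul, hab a ha b hb]
  letI : CommRing ↥R := Algebra.adjoinCommRingOfComm k hcomm
  have hRcomm : ∀ r ∈ R, ∀ s ∈ R, r * s = s * r := fun r hr s hs =>
    congrArg Subtype.val (mul_comm (⟨r, hr⟩ : ↥R) ⟨s, hs⟩)
  have hinvmul : ∀ g : G, ρ g⁻¹ * ρ g = 1 := fun g => by rw [← map_mul, inv_mul_cancel, map_one]
  have hmulinv : ∀ g : G, ρ g * ρ g⁻¹ = 1 := fun g => by rw [← map_mul, mul_inv_cancel, map_one]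
  have hconj : ∀ (g : G) (r : Module.End k V), r ∈ R → ρ g * r * ρ g⁻¹ ∈ R := by
    intro g r hr
    induction hr using Algebra.adjoin_induction with
    | mem r hr =>
      obtain ⟨a, ha, rfl⟩ := hr
      rw [← map_mul, ← map_mul]
      exact Algebra.subset_adjoin ⟨_, (inferInstance : A.Normal).conj_mem a ha g, rfl⟩
    | algebraMap c =>
      rw [← Algebra.commutes c (ρ g), mul_assoc, hmulinv, mul_one]
      exact R.algebraMap_mem c
    | add r s _ _ hr hs => rw [mul_add, add_mul]; exact R.add_mem hr hs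
    | mul r s _ _ hr hs =>
      rw [← conj_conj ρ g r s]
      exact R.mul_mem hr hs
  -- a minimal idempotent
  have hex : ∃ n, ∃ e ∈ R, e * e = e ∧ e ≠ 0 ∧
      Module.finrank k (LinearMap.range e) = n :=
    ⟨_, 1, R.one_mem, one_mul 1, one_ne_zero, rfl⟩
  obtain ⟨e, heR, hee, he0, hen⟩ := Nat.find_spec hex
  have hmin : ∀ f ∈ R, f * f = f → e * f = 0 ∨ e * f = e := by
    intro f hf hff
    refine or_iff_not_imp_left.2 fun h0 => ?_
    have hefef : e * f * (e * f) = e * f := by
      rw [mul_assoc, ← mul_assoc f e f, hRcomm f hf e heR, mul_assoc e f f, hff, ← mul_assoc, hee]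
    have hle : LinearMap.range (e * f) ≤ LinearMap.range e := by
      rintro _ ⟨v, rfl⟩
      exact ⟨f v, rfl⟩
    have hge : Nat.find hex ≤ Module.finrank k (LinearMap.range (e * f)) :=
      Nat.find_min' hex ⟨e * f, R.mul_mem heR hf, hefef, h0, rfl⟩
    have heq := Submodule.eq_of_le_of_finrank_le hle (hen ▸ hge)
    refine LinearMap.ext fun v => ?_
    obtain ⟨w, hw⟩ : e v ∈ LinearMap.range (e * f) := heq ▸ ⟨v, rfl⟩
    have h1 : (e * f) (e v) = e v := by
      conv_lhs => rw [← hw, ← Module.End.mul_apply, hefef]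
      exact hw
    rw [← Module.End.mul_apply, mul_assoc, hRcomm f hf e heR, ← mul_assoc, hee] at h1
    exact h1
  -- its orbit
  let Ωs : Set (Module.End k V) := Set.range fun g : G => ρ g * e * ρ g⁻¹
  have hΩmem : ∀ d : Ωs, (d : Module.End k V) ∈ R ∧ (d : Module.End k V) * d = d ∧
      (d : Module.End k V) ≠ 0 := by
    rintro ⟨_, g, rfl⟩
    refine ⟨hconj g e heR, ?_, fun h0 => he0 ?_⟩
    · show _ * _ = _
      rw [conj_conj, hee]
    · have h1 : ρ g⁻¹ * (ρ g * e * ρ g⁻¹) * ρ g = 0 := by rw [show ρ g * e * ρ g⁻¹ = 0 from h0, mul_zero, zero_mul]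
      calc e = (ρ g⁻¹ * ρ g) * e * (ρ g⁻¹ * ρ g) := by rw [hinvmul, one_mul, mul_one]
        _ = _ := by rw [← h1]; simp only [mul_assoc]
  have horth : ∀ a b : Ωs, (a : Module.End k V) * b = if a = b then (a : Module.End k V) else 0 := by
    have hatom : ∀ a b : Ωs, (a : Module.End k V) * b = 0 ∨ (a : Module.End k V) * b = a := by
      rintro ⟨_, g, rfl⟩ b
      obtain ⟨hbR, hbb, -⟩ := hΩmem b
      have hbf := hmin (ρ g⁻¹ * b * ρ g⁻¹⁻¹) (hconj g⁻¹ _ hbR) (by rw [conj_conj, hbb])
      rw [inv_inv] at hbf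
      have e1 : ρ g * e * ρ g⁻¹ * b = ρ g * (e * (ρ g⁻¹ * b * ρ g)) * ρ g⁻¹ := by
        simp only [mul_assoc, hmulinv, mul_one]
      rcases hbf with h | h
      · exact Or.inl (by rw [e1, h, mul_zero, zero_mul])
      · exact Or.inr (by rw [e1, h])
    intro a b
    by_cases hab' : a = b
    · rw [if_pos hab', ← hab']; exact (hΩmem a).2.1
    · rw [if_neg hab']
      rcases hatom a b with h | h
      · exact h
      rcases hatom b a with h' | h'
      · rw [hRcomm _ (hΩmem a).1 _ (hΩmem b).1]; exact h'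
      · rw [hRcomm _ (hΩmem b).1 _ (hΩmem a).1, h] at h'
        exact absurd (Subtype.ext h') hab'
  letI act : MulAction G Ωs :=
    { smul := fun g d => ⟨ρ g * d * ρ g⁻¹, by
        obtain ⟨h, hh⟩ := d.2
        refine ⟨g * h, ?_⟩
        simp only [← hh, mul_inv_rev, map_mul, mul_assoc]⟩
      one_smul := fun d => Subtype.ext (by
        show ρ 1 * (d : Module.End k V) * ρ 1⁻¹ = d
        rw [inv_one, map_one, one_mul, mul_one])
      mul_smul := fun g h d => Subtype.ext (by
        show ρ (g * h) * (d : Module.End k V) * ρ (g * h)⁻¹ = ρ g * (ρ h * d * ρ h⁻¹) * ρ g⁻¹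
        simp only [mul_inv_rev, map_mul, mul_assoc]) }
  have hsmul : ∀ (g : G) (d : Ωs), ((g • d : Ωs) : Module.End k V) = ρ g * d * ρ g⁻¹ :=
    fun _ _ => rfl
  haveI : MulAction.IsPretransitive G Ωs := ⟨fun a b => by
    obtain ⟨g, hg⟩ := a.2
    obtain ⟨h, hh⟩ := b.2
    refine ⟨h * g⁻¹, Subtype.ext ?_⟩
    rw [hsmul, ← hg, ← hh]
    simp only [mul_inv_rev, inv_inv, ← mul_assoc, ← map_mul, inv_mul_cancel_right]
    simp only [mul_assoc, ← map_mul, inv_mul_cancel_left]⟩
  have := Fintype.ofFinite Ωs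
  have heqv : ∀ (g : G) (a : Ωs), ρ g * (a : Module.End k V) = ((g • a : Ωs) : Module.End k V) * ρ g := by
    intro g a
    rw [hsmul, mul_assoc, hinvmul, mul_one]
  have hsum : ∑ a : Ωs, (a : Module.End k V) = 1 := by
    set s := ∑ a : Ωs, (a : Module.End k V) with hs
    have hss : s * s = s := by
      simp only [hs, Finset.sum_mul, Finset.mul_sum, horth, Finset.sum_ite_eq, Finset.sum_ite_eq',
        Finset.mem_univ, if_true]
    have hgs : ∀ g, ρ g * s = s * ρ g := by
      intro g
      simp only [hs, Finset.mul_sum, Finset.sum_mul, heqv]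
      exact Equiv.sum_comp (MulAction.toPerm g) fun a : Ωs => (a : Module.End k V) * ρ g
    rcases hirr (LinearMap.range s) (by
      rintro g _ ⟨v, rfl⟩
      refine ⟨ρ g v, ?_⟩
      rw [← Module.End.mul_apply, ← hgs, Module.End.mul_apply]) with h | h
    · exfalso
      have hmem : e ∈ Ωs := ⟨1, show ρ 1 * e * ρ 1⁻¹ = e by rw [inv_one, map_one, one_mul, mul_one]⟩
      have h1 : s * e = e := by
        simp only [hs, Finset.sum_mul]
        rw [Finset.sum_eq_single (⟨e, hmem⟩ : Ωs)]
        · exact hee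
        · intro b _ hb
          have := horth b ⟨e, hmem⟩
          rw [if_neg hb] at this
          exact this
        · exact fun h' => absurd (Finset.mem_univ _) h'
      rw [LinearMap.range_eq_bot.1 h, zero_mul] at h1
      exact he0 h1.symm
    · refine LinearMap.ext fun v => ?_
      obtain ⟨w, hw⟩ : v ∈ LinearMap.range s := h ▸ Submodule.mem_top
      rw [← hw, ← Module.End.mul_apply, hss, Module.End.one_apply]
  rcases subsingleton_or_nontrivial Ωs with hone | hnt
  swap
  · exact Or.inl (bound_of_idempotents ρ hp hp5 hx hgen (fun a : Ωs => (a : Module.End k V))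
      horth hsum (fun a => (hΩmem a).2.2) heqv)
  right
  have hmem : e ∈ Ωs := ⟨1, show ρ 1 * e * ρ 1⁻¹ = e by rw [inv_one, map_one, one_mul, mul_one]⟩
  have he1 : e = 1 := by
    rw [← hsum, Fintype.sum_subsingleton _ (⟨e, hmem⟩ : Ωs)]
  subst he1
  -- no nilpotent elements
  have hred : ∀ r ∈ R, ∀ n : ℕ, r ^ n = 0 → r = 0 := by
    suffices h2 : ∀ r ∈ R, r * r = 0 → r = 0 by
      intro r hr n
      induction n using Nat.strong_induction_on with
      | _ n ih =>
        intro hn
        rcases lt_or_ge n 2 with h | h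
        · interval_cases n
          · rw [pow_zero] at hn; exact absurd hn one_ne_zero
          · rwa [pow_one] at hn
        · refine ih (n - 1) (by omega) (h2 _ (R.pow_mem hr _) ?_)
          rw [← pow_add, show n - 1 + (n - 1) = n + (n - 2) by omega, pow_add, hn, zero_mul]
    intro r hr hrr
    let J : Set (Module.End k V) := {j | ∃ g : G, j = ρ g * r * ρ g⁻¹}
    let W : Submodule k V := ⨆ j : J, LinearMap.range (j : Module.End k V)
    have hsub : ∀ j : J, (j : Module.End k V) ∈ R ∧ (j : Module.End k V) * j = 0 := by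
      rintro ⟨_, g, rfl⟩
      refine ⟨hconj g r hr, ?_⟩
      show _ * _ = _
      rw [conj_conj, hrr, mul_zero, zero_mul]
    have hrJ : r ∈ J := ⟨1, by rw [inv_one, map_one, one_mul, mul_one]⟩
    rcases hirr W (by
      intro g v hv
      refine Submodule.iSup_induction _ (motive := fun v => ρ g v ∈ W) hv ?_ ?_ ?_
      · rintro ⟨_, h, rfl⟩ _ ⟨w, rfl⟩
        refine Submodule.mem_iSup_of_mem (⟨_, g * h, rfl⟩ : J) ⟨ρ g w, ?_⟩
        show (ρ (g * h) * r * ρ (g * h)⁻¹) (ρ g w) = ρ g ((ρ h * r * ρ h⁻¹) w)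
        rw [← Module.End.mul_apply, ← Module.End.mul_apply, mul_inv_rev, map_mul, map_mul]
        simp only [mul_assoc, hinvmul, mul_one]
      · rw [map_zero]; exact W.zero_mem
      · intro u w hu hw; rw [map_add]; exact W.add_mem hu hw) with h | h
    · refine LinearMap.range_eq_bot.1 (le_bot_iff.1 (h ▸ ?_))
      exact le_iSup_of_le (⟨r, hrJ⟩ : J) le_rfl
    · -- the nilpotent elements cannot span
      exfalso
      have key : ∀ (S : Finset J) (v : V), (∀ j ∈ S, (j : Module.End k V) v = 0) → v = 0 ∨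
          ∃ u : V, u ≠ 0 ∧ ∀ j ∈ S, (j : Module.End k V) u = 0 := fun S v hv => by
        by_cases h0 : v = 0
        · exact Or.inl h0
        · exact Or.inr ⟨v, h0, hv⟩
      have hkill : ∀ S : Finset J, ∃ u : V, u ≠ 0 ∧ ∀ j ∈ S, (j : Module.End k V) u = 0 := by
        intro S
        induction S using Finset.induction_on with
        | empty =>
          obtain ⟨u, hu⟩ := exists_ne (0 : V)
          exact ⟨u, hu, fun j hj => absurd hj (Finset.notMem_empty j)⟩
        | insert j S _ ih =>
          obtain ⟨u, hu, hu'⟩ := ih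
          by_cases hju : (j : Module.End k V) u = 0
          · exact ⟨u, hu, fun i hi => (Finset.mem_insert.1 hi).elim (fun h' => h' ▸ hju) (hu' i)⟩
          · refine ⟨(j : Module.End k V) u, hju, fun i hi => ?_⟩
            rcases Finset.mem_insert.1 hi with rfl | hi
            · rw [← Module.End.mul_apply, (hsub i).2, LinearMap.zero_apply]
            · rw [← Module.End.mul_apply, hRcomm _ (hsub i).1 _ (hsub j).1, Module.End.mul_apply,
                hu' i hi, map_zero]
      have : Finite J := (Set.finite_range fun g : G => ρ g * r * ρ g⁻¹).subset (by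
        rintro _ ⟨g, rfl⟩; exact ⟨g, rfl⟩) |>.to_subtype
      have := Fintype.ofFinite J
      obtain ⟨u, hu, hu'⟩ := hkill Finset.univ
      rcases hirr (⨅ j : J, LinearMap.ker (j : Module.End k V)) (by
        intro g v hv
        rw [Submodule.mem_iInf] at hv ⊢
        rintro ⟨_, h', rfl⟩
        rw [LinearMap.mem_ker, ← Module.End.mul_apply]
        have h1 := hv ⟨_, g⁻¹ * h', rfl⟩
        rw [LinearMap.mem_ker] at h1
        have e2 : ρ h' * r * ρ h'⁻¹ * ρ g = ρ g * (ρ (g⁻¹ * h') * r * ρ (g⁻¹ * h')⁻¹) := by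
          rw [mul_inv_rev, inv_inv, map_mul, map_mul]
          simp only [← mul_assoc, hmulinv, one_mul]
        rw [e2, Module.End.mul_apply, h1, map_zero]) with h0 | h0
      · refine hu ((Submodule.mem_bot k).1 ?_)
        rw [← h0, Submodule.mem_iInf]
        exact fun j => hu' j (Finset.mem_univ j)
      · have hr0 : r = 0 := LinearMap.ker_eq_top.1 (top_le_iff.1 (h0 ▸ iInf_le _ (⟨r, hrJ⟩ : J)))
        have hWbot : W = ⊥ := iSup_eq_bot.2 fun ⟨j, g, hj⟩ => by
          rw [LinearMap.range_eq_bot]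
          show j = 0
          rw [hj, hr0, mul_zero, zero_mul]
        rw [h] at hWbot
        exact top_ne_bot hWbot
  haveI : IsArtinianRing ↥R := IsArtinianRing.of_finite k ↥R
  refine ⟨⟨0, 1, fun h => one_ne_zero (congrArg Subtype.val h.symm)⟩, mul_comm, fun {r} hr => ?_⟩
  obtain ⟨n, y, hy⟩ := IsArtinian.exists_pow_succ_smul_dvd r (1 : ↥R)
  rw [smul_eq_mul, smul_eq_mul, mul_one] at hy
  have h1 : ∀ i, r ^ n = r ^ (n + i) * y ^ i := by
    intro i
    induction i with
    | zero => simp
    | succ i ih =>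
      calc r ^ n = r ^ (n + i) * y ^ i := ih
        _ = r ^ i * (r ^ (n + 1) * y) * y ^ i := by rw [hy, ← pow_add, add_comm n i]
        _ = _ := by ring
  set f : ↥R := r ^ n * y ^ n with hf
  have hff : f * f = f := by
    calc f * f = (r ^ (n + n) * y ^ n) * y ^ n := by rw [hf]; ring
      _ = f := by rw [← h1 n, hf]
  rcases hmin f f.2 (congrArg Subtype.val hff) with h0 | h0 <;> rw [one_mul] at h0
  · exfalso
    refine hr (Subtype.ext (hred _ r.2 n ?_))
    have : r ^ n = r ^ n * f := by
      conv_lhs => rw [h1 n]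
      rw [hf]; ring
    have h2 := congrArg Subtype.val this
    rw [Subalgebra.coe_mul, h0, mul_zero] at h2
    simpa using h2
  · have hf1 : f = 1 := Subtype.ext h0
    rcases n with - | m
    · exact ⟨y, by rw [pow_zero] at hy; simpa using hy⟩
    · refine ⟨r ^ m * y ^ (m + 1), ?_⟩
      rw [← hf1, hf]; ring

/-- An abelian normal subgroup is centralized, or the fixed space is small. -/
theorem bound_or_commute [Group.IsSolvable G] (ρ : G →* Module.End k V)
    (hfaith : Function.Injective ρ)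
    (hirr : ∀ W : Submodule k V, (∀ g, ∀ v ∈ W, ρ g v ∈ W) → W = ⊥ ∨ W = ⊤) [Nontrivial V]
    {p : ℕ} (hp : p.Prime) (hp5 : 5 ≤ p) {x : G} (hx : x ^ p = 1)
    (hgen : normalClosure ({x} : Set G) = ⊤) (A : Subgroup G) [A.Normal]
    (hab : ∀ a ∈ A, ∀ b ∈ A, a * b = b * a) :
    2 * Module.finrank k (LinearMap.ker (ρ x - 1)) < Module.finrank k V ∨
      ∀ a ∈ A, x * a = a * x := by
  classical
  rcases bound_or_isField ρ hirr hp hp5 hx hgen A hab with h | hF
  · exact Or.inl h
  refine or_iff_not_imp_right.2 fun hne => ?_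
  push Not at hne
  obtain ⟨a, ha, hax⟩ := hne
  set R := Algebra.adjoin k (ρ '' (A : Set G)) with hR
  letI := hF.toField
  let μ : Fin p → ↥R := fun i => ⟨ρ (x ^ (i : ℕ) * a * (x ^ (i : ℕ))⁻¹),
    Algebra.subset_adjoin ⟨_, (inferInstance : A.Normal).conj_mem a ha _, rfl⟩⟩
  have hμ : Function.Injective μ := by
    intro i j hij
    have h1 : x ^ (i : ℕ) * a * (x ^ (i : ℕ))⁻¹ = x ^ (j : ℕ) * a * (x ^ (j : ℕ))⁻¹ :=
      hfaith (congrArg Subtype.val hij)
    by_contra hne'
    have key : ∀ i j : ℕ, i < j → j < p →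
        x ^ i * a * (x ^ i)⁻¹ = x ^ j * a * (x ^ j)⁻¹ → False := by
      intro i j hlt hjp he
      obtain ⟨d, rfl⟩ := Nat.exists_eq_add_of_le hlt.le
      have hc : Commute (x ^ d) a := by
        have h2 : x ^ d * a * (x ^ d)⁻¹ = a := by
          rw [pow_add] at he
          calc x ^ d * a * (x ^ d)⁻¹
              = (x ^ i)⁻¹ * (x ^ i * x ^ d * a * (x ^ i * x ^ d)⁻¹) * x ^ i := by group
            _ = a := by rw [← he]; group
        exact mul_inv_eq_iff_eq_mul.1 h2
      have hcop : d.Coprime p := ((hp.coprime_iff_not_dvd).2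
        (Nat.not_dvd_of_pos_of_lt (by omega) (by omega))).symm
      obtain ⟨m, hm⟩ := exists_pow_eq_self_of_coprime (x := x)
        (hcop.coprime_dvd_right (orderOf_dvd_of_pow_eq_one hx))
      rw [← hm] at hax
      exact hax (hc.pow_left m).eq
    rcases Nat.lt_or_gt_of_ne (fun h : (i : ℕ) = j => hne' (Fin.ext h)) with h | h
    · exact key i j h j.2 h1
    · exact key j i h i.2 h1.symm
  have hdet : (Matrix.vandermonde μ).det ≠ 0 := Matrix.det_vandermonde_ne_zero_iff.2 hμ
  have hb := mul_finrank_le (LinearMap.ker (ρ x - 1))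
    (fun j : Fin p => (ρ (a ^ (j : ℕ))).comp (Submodule.subtype _)) (fun v hv => by
      have hfix : ∀ (i : ℕ) (j : Fin p), ρ (x ^ i) (v j : V) = v j := by
        intro i j
        induction i with
        | zero => simp
        | succ i ih =>
          have h1 := LinearMap.mem_ker.1 (v j).2
          rw [LinearMap.sub_apply, Module.End.one_apply, sub_eq_zero] at h1
          rw [pow_succ, map_mul, Module.End.mul_apply, h1, ih]
      have hreg : ∀ (r : ↥R) (w : V), r • w = 0 → r ≠ 0 → w = 0 := by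
        intro r w hrw hr
        calc w = (r⁻¹ * r) • w := by rw [inv_mul_cancel₀ hr, one_smul]
          _ = 0 := by rw [mul_smul, hrw, smul_zero]
      have h2 := eq_zero_of_vandermonde (R := ↥R) (M := V) hreg _ hdet (fun j => (v j : V)) (by
        intro i
        have h3 := congrArg (ρ (x ^ (i : ℕ))) hv
        rw [map_zero, map_sum] at h3
        rw [← h3]
        refine Finset.sum_congr rfl fun j _ => ?_
        show ((μ i ^ (j : ℕ) : ↥R) : Module.End k V) (v j : V) = ρ (x ^ (i : ℕ)) (ρ (a ^ (j : ℕ)) (v j : V))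
        rw [Subalgebra.coe_pow, ← map_pow, conj_pow, map_mul, map_mul, Module.End.mul_apply,
          Module.End.mul_apply]
        congr 2
        have h4 := hfix (i : ℕ) j
        calc ρ (x ^ (i : ℕ))⁻¹ (v j : V) = ρ (x ^ (i : ℕ))⁻¹ (ρ (x ^ (i : ℕ)) (v j : V)) := by rw [h4]
          _ = v j := by
            rw [← Module.End.mul_apply, ← map_mul, inv_mul_cancel, map_one, Module.End.one_apply])
      funext j
      exact Subtype.ext (congrFun h2 j))
  have hpos : 0 < Module.finrank k V := Module.finrank_pos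
  have := Nat.mul_le_mul_right (Module.finrank k (LinearMap.ker (ρ x - 1))) hp5
  omega

end Cfsg.Agent.FixedHalf
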