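import Cfsg.Agent.Lib.FixedHalf.Tools
import Cfsg.Agent.Lib.Solvable.Primitive
import Mathlib.GroupTheory.Perm.Cycle.Type

/-!
Fixed space of an element of prime order in an imprimitive linear action.
-/

set_option autoImplicit false

namespace Cfsg.Agent.FixedHalf

open Subgroup

/-- An element of prime order `p ≥ 5` moves at least four fifths of the points of a primitive
solvable action. -/
theorem five_mul_card_fixed_le {G : Type*} [Group G] [Finite G] [Group.IsSolvable G]
    {p : ℕ} (hp : p.Prime) (hp5 : 5 ≤ p) {x : G} (hx : x ^ p = 1)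
    (hgen : normalClosure ({x} : Set G) = ⊤) {M : Subgroup G} (hM : IsCoatom M) :
    5 * Nat.card {c : G ⧸ M // x • c = c} ≤ Nat.card (G ⧸ M) := by
  classical
  haveI := Fact.mk hp
  rcases isEmpty_or_nonempty {c : G ⧸ M // x • c = c} with hE | ⟨⟨c₀, hc₀⟩⟩
  · simp
  obtain ⟨g₀, rfl⟩ := Quotient.exists_rep c₀
  set y := g₀⁻¹ * x * g₀ with hy
  have hyM : y ∈ M := by
    change ((x * g₀ : G) : G ⧸ M) = (g₀ : G ⧸ M) at hc₀
    rw [QuotientGroup.eq] at hc₀
    rw [hy]
    simpa [mul_assoc] using inv_mem hc₀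
  set C := M.normalCore with hC
  have hyC : y ∉ C := fun h => by
    have hxC : x ∈ C := by
      have h0 := (inferInstance : C.Normal).conj_mem y h g₀
      have e : g₀ * y * g₀⁻¹ = x := by rw [hy]; group
      rwa [e] at h0
    exact hM.1 (top_le_iff.1 (hgen ▸ (normalClosure_le_normal
      (Set.singleton_subset_iff.2 hxC)).trans M.normalCore_le))
  set f := QuotientGroup.mk' C with hf
  set Mb := M.map f with hMb
  have hcomap : Mb.comap f = M := by
    rw [hMb, comap_map_eq, QuotientGroup.ker_mk', sup_eq_left.2 M.normalCore_le]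
  have hMbc : IsCoatom Mb := by
    refine ⟨fun h => hM.1 (by rw [← hcomap, h, comap_top]), fun K hK => ?_⟩
    have h1 : M < K.comap f := lt_of_le_of_ne (hcomap.symm.le.trans (comap_mono hK.le))
      fun he => hK.ne (comap_injective (QuotientGroup.mk'_surjective C) (hcomap.trans he))
    refine comap_injective (QuotientGroup.mk'_surjective C) ?_
    rw [hM.2 _ h1, comap_top]
  have hcore : Mb.normalCore = ⊥ := by
    have h1 : Mb.normalCore.comap f ≤ C := by
      have : (Mb.normalCore.comap f).Normal := inferInstance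
      exact normal_le_normalCore.2 ((comap_mono Mb.normalCore_le).trans hcomap.le)
    rw [eq_bot_iff]
    intro u hu
    obtain ⟨v, rfl⟩ := QuotientGroup.mk'_surjective C u
    rw [mem_bot]
    exact (QuotientGroup.eq_one_iff v).2 (h1 hu)
  haveI : Nontrivial (G ⧸ C) :=
    ⟨⟨f y, 1, fun h => hyC ((QuotientGroup.eq_one_iff y).1 h)⟩⟩
  haveI : Group.IsSolvable (G ⧸ C) :=
    Group.isSolvable_of_surjective (QuotientGroup.mk'_surjective C)
  haveI : Group.IsSolvable ↥(⊤ : Subgroup (G ⧸ C)) :=
    Group.isSolvable_of_isSolvable_injective (⊤ : Subgroup (G ⧸ C)).subtype_injective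
  obtain ⟨Nb, q, hq, hNn, hN1, -, hNc, -, hNq, -⟩ :=
    SolvBasic.exists_minimal_normal_abelian (G := G ⧸ C) (N := ⊤) inferInstance top_ne_bot
  haveI := hNn
  haveI := hNc
  have hinf : Nb ⊓ Mb = ⊥ := SolvPrim.inf_eq_bot_of_abelian hMbc hcore hN1
  have hrep : ∀ u : ↥Nb, ∃ g : G, f g = (u : G ⧸ C) := fun u => QuotientGroup.mk'_surjective C _
  choose rep hrep using hrep
  let Ψ : ↥Nb → G ⧸ M := fun u => (rep u : G)
  have hΨ : ∀ (u : ↥Nb) (g : G), f g = (u : G ⧸ C) → ((g : G) : G ⧸ M) = Ψ u := by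
    intro u g hg
    show ((g : G) : G ⧸ M) = (rep u : G)
    rw [QuotientGroup.eq, ← hcomap, mem_comap, map_mul, map_inv, hg, hrep, inv_mul_cancel]
    exact one_mem _
  have hΨb : Function.Bijective Ψ := by
    refine ⟨fun u v huv => ?_, fun c => ?_⟩
    · have h1 : (rep u)⁻¹ * rep v ∈ M := QuotientGroup.eq.1 huv
      rw [← hcomap, mem_comap, map_mul, map_inv, hrep, hrep] at h1
      have h2 : (u : G ⧸ C)⁻¹ * v ∈ Nb ⊓ Mb := mem_inf.2 ⟨mul_mem (inv_mem u.2) v.2, h1⟩
      rw [hinf, mem_bot, inv_mul_eq_one] at h2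
      exact Subtype.ext h2
    · obtain ⟨g, rfl⟩ := Quotient.exists_rep c
      obtain ⟨n, hn, u, hu, hnu⟩ := SolvPrim.exists_mul hMbc hcore hNn hN1 (f g)
      refine ⟨⟨n, hn⟩, ?_⟩
      show (rep ⟨n, hn⟩ : G ⧸ M) = (g : G ⧸ M)
      rw [QuotientGroup.eq]
      refine hcomap.le ?_
      rw [mem_comap, map_mul, map_inv, hrep]
      show n⁻¹ * f g ∈ Mb
      rwa [hnu, inv_mul_cancel_left]
  -- conjugation by `y` on the regular normal subgroup
  have hconj : ∀ u : ↥Nb, f y * u * (f y)⁻¹ ∈ Nb := fun u => hNn.conj_mem _ u.2 _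
  let σ : Equiv.Perm ↥Nb := Equiv.ofBijective (fun u => ⟨_, hconj u⟩)
    (Finite.injective_iff_bijective.1 fun u v h => Subtype.ext (by
      simpa using congrArg (fun t : ↥Nb => (t : G ⧸ C)) h))
  have hσΨ : ∀ u, Ψ (σ u) = y • Ψ u := by
    intro u
    show _ = ((y * rep u : G) : G ⧸ M)
    have h1 : ((y * rep u : G) : G ⧸ M) = ((y * rep u * y⁻¹ : G) : G ⧸ M) := by
      rw [QuotientGroup.eq, show (y * rep u)⁻¹ * (y * rep u * y⁻¹) = y⁻¹ by group]
      exact inv_mem hyM
    rw [h1]
    exact (hΨ _ _ (by rw [map_mul, map_mul, map_inv, hrep]; rfl)).symm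
  have hcardN : Nat.card ↥Nb = Nat.card (G ⧸ M) := Nat.card_eq_of_bijective Ψ hΨb
  have hcardF : Nat.card {u : ↥Nb // σ u = u} = Nat.card {c : G ⧸ M // x • c = c} := by
    refine Nat.card_congr (Equiv.trans (Equiv.subtypeEquiv (Equiv.ofBijective Ψ hΨb)
      (q := fun c => y • c = c) fun u => ?_) (Equiv.subtypeEquiv (MulAction.toPerm g₀) fun c => ?_))
    · show σ u = u ↔ y • Ψ u = Ψ u
      rw [← hσΨ]
      exact hΨb.1.eq_iff.symm
    · show y • c = c ↔ x • g₀ • c = g₀ • c
      rw [hy, mul_smul, mul_smul, inv_smul_eq_iff]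
  let Cy : Subgroup ↥Nb := (centralizer ({f y} : Set (G ⧸ C))).subgroupOf Nb
  have hcardC : Nat.card ↥Cy = Nat.card {u : ↥Nb // σ u = u} := by
    refine Nat.card_congr (Equiv.subtypeEquivRight fun u => ?_)
    show (u : G ⧸ C) ∈ centralizer ({f y} : Set (G ⧸ C)) ↔ _
    rw [mem_centralizer_singleton_iff, Subtype.ext_iff]
    show _ ↔ f y * u * (f y)⁻¹ = u
    rw [mul_inv_eq_iff_eq_mul, eq_comm]
  have hi1 : Cy.index ≠ 1 := fun h => by
    rw [index_eq_one, subgroupOf_eq_top] at h
    have h1 : f y ∈ centralizer (Nb : Set (G ⧸ C)) := mem_centralizer_iff.2 fun u hu =>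
      mem_centralizer_singleton_iff.1 (h hu)
    rw [SolvPrim.centralizer_eq_self hMbc hcore hN1] at h1
    have h2 : f y ∈ Nb ⊓ Mb := mem_inf.2 ⟨h1, mem_map_of_mem f hyM⟩
    rw [hinf, mem_bot] at h2
    exact hyC ((QuotientGroup.eq_one_iff y).1 h2)
  have hmod : Nat.card ↥Cy ≡ Nat.card ↥Nb [MOD p] := by
    have hσp : σ ^ p ^ 1 = 1 := by
      rw [pow_one]
      refine Equiv.ext fun u => Subtype.ext ?_
      have h1 : ∀ i, ((σ ^ i) u : G ⧸ C) = (f y) ^ i * u * ((f y) ^ i)⁻¹ := by
        intro i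
        induction i with
        | zero => simp
        | succ i ih =>
          rw [pow_succ', Equiv.Perm.mul_apply]
          show f y * ((σ ^ i) u : G ⧸ C) * (f y)⁻¹ = _
          rw [ih, pow_succ']
          group
      rw [h1, ← map_pow, hy, show g₀⁻¹ * x * g₀ = g₀⁻¹ * x * g₀⁻¹⁻¹ by group, conj_pow, hx]
      simp
    haveI := Fintype.ofFinite ↥Nb
    have h1 := Equiv.Perm.card_compl_support_modEq hσp
    rw [hcardC, Nat.card_eq_fintype_card, Fintype.card_subtype, Nat.card_eq_fintype_card]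
    convert h1 using 2
    ext u; simp
  have hmul := Cy.card_mul_index
  have hi5 : 5 ≤ Cy.index := by
    by_cases hpc : p ∣ Nat.card ↥Cy
    · have hpN : p ∣ Nat.card ↥Nb := hpc.trans (Dvd.intro _ hmul)
      haveI := Fact.mk hq
      obtain ⟨k, hk⟩ := IsPGroup.iff_card.1 hNq
      have hpq : p = q := by
        rw [hk] at hpN
        exact (Nat.prime_dvd_prime_iff_eq hp hq).1 (hp.dvd_of_dvd_pow hpN)
      have hdvd : Cy.index ∣ q ^ k := hk ▸ Dvd.intro_left _ hmul
      obtain ⟨j, -, hj⟩ := (Nat.dvd_prime_pow hq).1 hdvd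
      have hj0 : j ≠ 0 := fun h => hi1 (by rw [hj, h, pow_zero])
      calc 5 ≤ p := hp5
        _ = q := hpq
        _ ≤ Cy.index := hj ▸ Nat.le_self_pow hj0 q
    · rw [← hmul] at hmod
      have h1 : 1 ≡ Cy.index [MOD p] := Nat.ModEq.cancel_left_of_coprime
        ((hp.coprime_iff_not_dvd).2 hpc) (by rwa [mul_one])
      have hpos : 1 ≤ Cy.index := Nat.one_le_iff_ne_zero.2 index_ne_zero_of_finite
      have h2 : p ∣ Cy.index - 1 := (Nat.modEq_iff_dvd' hpos).1 h1
      have := Nat.le_of_dvd (by omega) h2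
      omega
  rw [← hcardF, ← hcardC, ← hcardN, ← hmul, mul_comm 5]
  exact Nat.mul_le_mul_left _ hi5

variable {G : Type*} [Group G] [Finite G] [Group.IsSolvable G]
  {k V : Type*} [Field k] [AddCommGroup V] [Module k V] [FiniteDimensional k V]

/-- The bound when there are nontrivial orthogonal idempotents permuted by the group. -/
theorem bound_of_idempotents (ρ : G →* Module.End k V) {p : ℕ} (hp : p.Prime) (hp5 : 5 ≤ p)
    {x : G} (hx : x ^ p = 1) (hgen : normalClosure ({x} : Set G) = ⊤)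
    {Ω : Type*} [Fintype Ω] [DecidableEq Ω] [MulAction G Ω] [MulAction.IsPretransitive G Ω]
    [Nontrivial Ω] (e : Ω → Module.End k V)
    (hid : ∀ a b, e a * e b = if a = b then e a else 0) (hsum : ∑ a, e a = 1)
    (hne : ∀ a, e a ≠ 0) (heq : ∀ g a, ρ g * e a = e (g • a) * ρ g) :
    2 * Module.finrank k (LinearMap.ker (ρ x - 1)) < Module.finrank k V := by
  classical
  obtain ⟨ω₀, ω₁, hω⟩ := exists_pair_ne Ω
  have hst : MulAction.stabilizer G ω₀ ≠ ⊤ := fun h => by
    obtain ⟨g, hg⟩ := MulAction.exists_smul_eq G ω₀ ω₁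
    have h1 : g ∈ MulAction.stabilizer G ω₀ := h ▸ mem_top g
    exact hω ((MulAction.mem_stabilizer_iff.1 h1).symm.trans hg)
  obtain ⟨M, hM, hle⟩ := (eq_top_or_exists_le_coatom (MulAction.stabilizer G ω₀)).resolve_left hst
  choose g hg using fun ω : Ω => MulAction.exists_smul_eq G ω₀ ω
  let π : Ω → G ⧸ M := fun ω => (g ω : G)
  have hπ : ∀ (h : G) (ω : Ω), π (h • ω) = h • π ω := by
    intro h ω
    show ((g (h • ω) : G) : G ⧸ M) = ((h * g ω : G) : G ⧸ M)
    rw [QuotientGroup.eq]
    refine hle (MulAction.mem_stabilizer_iff.2 ?_)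
    rw [mul_smul, inv_smul_eq_iff, mul_smul, hg, hg]
  haveI := Fintype.ofFinite (G ⧸ M)
  let e' : G ⧸ M → Module.End k V := fun c => ∑ ω with π ω = c, e ω
  have hsum' : ∑ c, e' c = 1 := (Finset.sum_fiberwise _ π e).trans hsum
  have hid' : ∀ a b, e' a * e' b = if a = b then e' a else 0 := by
    intro a b
    simp only [e', Finset.sum_mul, Finset.mul_sum, hid, Finset.sum_ite_eq, Finset.sum_ite_eq', Finset.mem_filter,
      Finset.mem_univ, true_and]
    split_ifs with h
    · subst h
      exact Finset.sum_congr rfl fun ω hω' => if_pos (Finset.mem_filter.1 hω').2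
    · refine Finset.sum_eq_zero fun ω hω' => if_neg fun h' => h ?_
      rw [← h', (Finset.mem_filter.1 hω').2]
  have heq' : ∀ h c, ρ h * e' c = e' (h • c) * ρ h := by
    intro h c
    simp only [e', Finset.mul_sum, Finset.sum_mul]
    refine Finset.sum_bij' (fun ω _ => h • ω) (fun ω _ => h⁻¹ • ω) ?_ ?_ ?_ ?_ ?_
    · intro ω hω'; simp only [Finset.mem_filter, Finset.mem_univ, true_and] at hω' ⊢
      rw [hπ, hω']
    · intro ω hω'; simp only [Finset.mem_filter, Finset.mem_univ, true_and] at hω' ⊢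
      rw [hπ, hω', inv_smul_smul]
    · intro ω _; rw [inv_smul_smul]
    · intro ω _; rw [smul_inv_smul]
    · intro ω _; exact heq h ω
  have hne' : ∀ c, e' c ≠ 0 := by
    intro c h0
    obtain ⟨h, hh⟩ := MulAction.exists_smul_eq G (π ω₀) c
    refine hne (h • ω₀) ?_
    have h1 : e' c * e (h • ω₀) = e (h • ω₀) := by
      simp only [e', Finset.sum_mul, hid, Finset.sum_ite_eq', Finset.mem_filter, Finset.mem_univ,
        true_and, hπ, hh, if_true]
    rw [← h1, h0, zero_mul]
  -- the ranks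
  set R₀ : G ⧸ M → Submodule k V := fun c => LinearMap.range (e' c) with hR₀
  have happ : ∀ a b (v : V), e' a (e' b v) = if a = b then e' a v else 0 := fun a b v => by
    have := LinearMap.congr_fun (hid' a b) v
    rw [Module.End.mul_apply] at this
    rw [this]; split_ifs <;> rfl
  have hd : ∀ c, Module.finrank k (R₀ c) = Module.finrank k (R₀ (π ω₀)) := by
    have key : ∀ (h : G) (c : G ⧸ M), Module.finrank k (R₀ c) ≤ Module.finrank k (R₀ (h • c)) := by
      intro h c
      refine LinearMap.finrank_le_finrank_of_injective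
        (f := ((ρ h).comp (R₀ c).subtype).codRestrict (R₀ (h • c)) fun v => ?_) ?_
      · obtain ⟨w, hw⟩ := v.2
        refine ⟨ρ h w, ?_⟩
        show (e' (h • c) * ρ h) w = ρ h v
        rw [← heq', Module.End.mul_apply, hw]
      · intro u v huv
        have h1 : ρ h u = ρ h v := congrArg Subtype.val huv
        have h2 := congrArg (ρ h⁻¹) h1
        rw [← Module.End.mul_apply, ← Module.End.mul_apply, ← map_mul, inv_mul_cancel, map_one] at h2
        exact Subtype.ext h2
    intro c
    obtain ⟨h, hh⟩ := MulAction.exists_smul_eq G (π ω₀) c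
    refine le_antisymm ?_ (hh ▸ key h (π ω₀))
    have h1 := key h⁻¹ c
    rwa [← hh, inv_smul_smul, hh] at h1
  set d := Module.finrank k (R₀ (π ω₀)) with hddef
  have hN : Module.finrank k V = Nat.card (G ⧸ M) * d := by
    let L : V →ₗ[k] Π c, R₀ c := LinearMap.pi fun c => (e' c).rangeRestrict
    have hLb : Function.Bijective L := by
      refine ⟨(injective_iff_map_eq_zero L).2 fun v hv => ?_, fun w => ⟨∑ c, (w c : V), ?_⟩⟩
      · have h1 : ∀ c, e' c v = 0 := fun c => congrArg Subtype.val (congrFun hv c)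
        have := LinearMap.congr_fun hsum' v
        rw [LinearMap.sum_apply, Finset.sum_eq_zero fun c _ => h1 c] at this
        exact this.symm
      · funext c
        refine Subtype.ext ?_
        show e' c (∑ b, (w b : V)) = w c
        rw [map_sum, Finset.sum_eq_single c]
        · obtain ⟨v, hv⟩ := (w c).2
          rw [← hv, happ, if_pos rfl]
        · intro b _ hb
          obtain ⟨v, hv⟩ := (w b).2
          rw [← hv, happ, if_neg fun h' => hb h'.symm]
        · exact fun h' => absurd (Finset.mem_univ c) h'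
    rw [(LinearEquiv.ofBijective L hLb).finrank_eq, Module.finrank_pi_fintype,
      Finset.sum_congr rfl fun c _ => hd c, Finset.sum_const, Finset.card_univ, smul_eq_mul,
      Nat.card_eq_fintype_card]
  have hdpos : 0 < d := by
    refine Nat.pos_of_ne_zero fun h0 => hne' (π ω₀) ?_
    exact LinearMap.range_eq_bot.1 (Submodule.finrank_eq_zero.1 h0)
  have hσ : (MulAction.toPermHom G (G ⧸ M) x) ^ p = 1 := by rw [← map_pow, hx, map_one]
  obtain ⟨R, hR1, hR2⟩ := exists_reps hp _ hσ
  have hA : Module.finrank k (LinearMap.ker (ρ x - 1)) ≤ R.card * d := by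
    let L : LinearMap.ker (ρ x - 1) →ₗ[k] Π r : R, R₀ r :=
      LinearMap.pi fun r => ((e' (r : G ⧸ M)).rangeRestrict).comp (Submodule.subtype _)
    have hL : Function.Injective L := (injective_iff_map_eq_zero L).2 fun v hv => by
      have hv0 : ρ x (v : V) = v := by
        have := LinearMap.mem_ker.1 v.2
        rwa [LinearMap.sub_apply, Module.End.one_apply, sub_eq_zero] at this
      have hvi : ∀ i : ℕ, ρ (x ^ i) (v : V) = v := by
        intro i
        induction i with
        | zero => simp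
        | succ i ih => rw [pow_succ, map_mul, Module.End.mul_apply, hv0, ih]
      have h1 : ∀ c, e' c (v : V) = 0 := by
        intro c
        obtain ⟨r, hr, i, hi⟩ := hR1 c
        rw [← map_pow] at hi
        change x ^ i • r = c at hi
        have h2 : e' r (v : V) = 0 := congrArg Subtype.val (congrFun hv ⟨r, hr⟩)
        have h3 := LinearMap.congr_fun (heq' (x ^ i) r) (v : V)
        rw [Module.End.mul_apply, Module.End.mul_apply, hi, hvi, h2, map_zero] at h3
        exact h3.symm
      have := LinearMap.congr_fun hsum' (v : V)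
      rw [LinearMap.sum_apply, Finset.sum_eq_zero fun c _ => h1 c] at this
      exact Subtype.ext this.symm
    refine (L.finrank_le_finrank_of_injective hL).trans (le_of_eq ?_)
    rw [Module.finrank_pi_fintype, Finset.sum_congr rfl (fun (r : ↥R) (_ : r ∈ Finset.univ) => hd (r : G ⧸ M)), Finset.sum_const,
      Finset.card_univ, Fintype.card_coe, smul_eq_mul]
  have hF := five_mul_card_fixed_le hp hp5 hx hgen hM
  have hF' : Nat.card {c : G ⧸ M // MulAction.toPermHom G (G ⧸ M) x c = c} =
      Nat.card {c : G ⧸ M // x • c = c} := rfl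
  rw [hF'] at hR2
  set m := Nat.card (G ⧸ M) with hm
  set F := Nat.card {c : G ⧸ M // x • c = c}
  have hmpos : 0 < m := Nat.card_pos
  have hlt : 2 * R.card < m := by
    by_contra h0
    push Not at h0
    obtain ⟨s, hs⟩ : ∃ s, p = s + 1 := ⟨p - 1, by omega⟩
    subst hs
    rw [Nat.add_sub_cancel] at hR2
    have h1 := Nat.mul_le_mul_left (s + 1) h0
    have h2 := Nat.mul_le_mul_left s hF
    nlinarith [h1, h2, hR2, Nat.mul_le_mul_right m (show 4 ≤ s by omega)]
  calc 2 * Module.finrank k (LinearMap.ker (ρ x - 1)) ≤ 2 * (R.card * d) :=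
        Nat.mul_le_mul_left _ hA
    _ = (2 * R.card) * d := (mul_assoc _ _ _).symm
    _ < m * d := Nat.mul_lt_mul_of_pos_right hlt hdpos
    _ = _ := hN.symm

end Cfsg.Agent.FixedHalf
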