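import Cfsg.Agent.Lib.FixedHalf.Tools
import Mathlib.RingTheory.RootsOfUnity.PrimitiveRoots
import Mathlib.FieldTheory.Finite.Basic
import Mathlib.Algebra.Field.GeomSum

/-!
Bounds on fixed spaces from commutation relations.
-/

set_option autoImplicit false

namespace Cfsg.Agent.FixedHalf

variable {K W : Type*} [Field K] [AddCommGroup W] [Module K W] [FiniteDimensional K W]

omit [FiniteDimensional K W] in
theorem mem_ker_sub_one {X : Module.End K W} {v : W} : v ∈ LinearMap.ker (X - 1) ↔ X v = v := by
  rw [LinearMap.mem_ker, LinearMap.sub_apply, Module.End.one_apply, sub_eq_zero]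

omit [FiniteDimensional K W] in
/-- Eigenvectors for different eigenvalues. -/
theorem eq_zero_of_eigen {ι : Type*} (X : Module.End K W) (μ : ι → K) (s : Finset ι)
    (hμ : Set.InjOn μ s) (w : ι → W) (hw : ∀ i ∈ s, X (w i) = μ i • w i)
    (hsum : ∑ i ∈ s, w i = 0) : ∀ i ∈ s, w i = 0 := by
  classical
  induction s using Finset.induction_on generalizing w with
  | empty => exact fun i hi => absurd hi (Finset.notMem_empty i)
  | insert a s ha ih =>
    rw [Finset.sum_insert ha] at hsum
    have h1 : ∀ i ∈ s, (μ i - μ a) • w i = 0 := by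
      refine ih (hμ.mono (Finset.coe_subset.2 (Finset.subset_insert a s))) _ (fun i hi => ?_) ?_
      · rw [map_smul, hw i (Finset.mem_insert_of_mem hi), smul_comm]
      · have h2 := congrArg X hsum
        rw [map_add, map_sum, map_zero, hw a (Finset.mem_insert_self a s),
          Finset.sum_congr rfl fun i hi => hw i (Finset.mem_insert_of_mem hi)] at h2
        have h3 := congrArg (μ a • ·) hsum
        simp only [smul_add, smul_zero, Finset.smul_sum] at h3
        simp only [sub_smul, Finset.sum_sub_distrib]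
        rw [sub_eq_zero]
        exact add_left_cancel (h2.trans h3.symm)
    have h2 : ∀ i ∈ s, w i = 0 := fun i hi => (smul_eq_zero.1 (h1 i hi)).resolve_left fun h0 =>
      ha ((hμ (Finset.mem_insert_of_mem hi) (Finset.mem_insert_self a s) (sub_eq_zero.1 h0)) ▸ hi)
    intro i hi
    rcases Finset.mem_insert.1 hi with rfl | hi
    · rwa [Finset.sum_eq_zero h2, add_zero] at hsum
    · exact h2 i hi

omit [FiniteDimensional K W] in
theorem pow_injective_of_root {p : ℕ} {ζ : K} (hζ : IsPrimitiveRoot ζ p) :
    Function.Injective fun i : Fin p => ζ ^ (i : ℕ) := fun i j h =>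
  Fin.ext (hζ.pow_inj i.2 j.2 h)

/-- An invertible operator moving the eigenvalues of `X` cyclically. -/
theorem mul_fixed_le_of_twist {p : ℕ} (X T : Module.End K W) (hT : Function.Injective T) {ζ : K}
    (hζ : IsPrimitiveRoot ζ p) (hXT : X * T = ζ • (T * X)) :
    p * Module.finrank K (LinearMap.ker (X - 1)) ≤ Module.finrank K W := by
  have hTj : ∀ j : ℕ, Function.Injective (T ^ j : Module.End K W) := by
    intro j
    induction j with
    | zero => exact fun u v h => by simpa using h
    | succ j ih => rw [pow_succ]; exact ih.comp hT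
  refine mul_finrank_le _ (fun j : Fin p => (T ^ (j : ℕ)).comp (Submodule.subtype _)) fun v hv => ?_
  have hX : ∀ (j : ℕ) (w : W), X w = w → X ((T ^ j) w) = ζ ^ j • (T ^ j) w := by
    intro j w hw
    induction j with
    | zero => simp [hw]
    | succ j ih =>
      rw [pow_succ' T, Module.End.mul_apply, ← Module.End.mul_apply X, hXT, LinearMap.smul_apply,
        Module.End.mul_apply, ih, map_smul, smul_smul, ← pow_succ']
  have h0 := eq_zero_of_eigen X (fun j : Fin p => ζ ^ (j : ℕ)) Finset.univ
    (pow_injective_of_root hζ).injOn (fun j => (T ^ (j : ℕ)) (v j : W))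
    (fun j _ => hX _ _ (mem_ker_sub_one.1 (v j).2)) hv
  funext j
  refine Subtype.ext (hTj j ?_)
  rw [h0 j (Finset.mem_univ j)]
  simp

/-- The commutant of a nontrivial operator is big if its fixed space is big. -/
theorem sq_fixed_lt_commutant {X : Module.End K W} (hX : X ≠ 1) (C : Submodule K (Module.End K W))
    (hC : ∀ f, f * X = X * f → f ∈ C) :
    Module.finrank K (LinearMap.ker (X - 1)) ^ 2 < Module.finrank K C := by
  set T := X - 1 with hT
  set A := LinearMap.ker T with hA
  let L : ((W ⧸ LinearMap.range T) →ₗ[K] A) →ₗ[K] Module.End K W :=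
    { toFun := fun f => A.subtype ∘ₗ f ∘ₗ (LinearMap.range T).mkQ
      map_add' := fun f g => LinearMap.ext fun v => by simp
      map_smul' := fun c f => LinearMap.ext fun v => by simp }
  have hLz : ∀ f, L f * T = 0 ∧ T * L f = 0 := by
    intro f
    constructor
    · refine LinearMap.ext fun v => ?_
      show ((f (Submodule.Quotient.mk (T v)) : A) : W) = 0
      rw [(Submodule.Quotient.mk_eq_zero (LinearMap.range T)).2 ⟨v, rfl⟩, map_zero, Submodule.coe_zero]
    · refine LinearMap.ext fun v => ?_
      exact LinearMap.mem_ker.1 (f (Submodule.Quotient.mk v)).2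
  have hLi : Function.Injective L := by
    intro f g h
    refine LinearMap.ext fun q => ?_
    obtain ⟨v, rfl⟩ := Submodule.Quotient.mk_surjective _ q
    exact Subtype.ext (LinearMap.congr_fun h v)
  have hle : LinearMap.range L < C := by
    refine lt_of_le_of_ne ?_ fun he => ?_
    · rintro _ ⟨f, rfl⟩
      refine hC _ ?_
      have hXT : X = T + 1 := by rw [hT, sub_add_cancel]
      rw [hXT, mul_add, add_mul, (hLz f).1, (hLz f).2, mul_one, one_mul]
    · obtain ⟨f, hf⟩ : (1 : Module.End K W) ∈ LinearMap.range L := he ▸ hC 1 (by rw [one_mul, mul_one])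
      have := (hLz f).1
      rw [hf, one_mul] at this
      exact hX (sub_eq_zero.1 this)
  have hlt := Submodule.finrank_lt_finrank_of_lt hle
  rw [LinearMap.finrank_range_of_inj hLi, Module.finrank_linearMap] at hlt
  have h1 := T.finrank_range_add_finrank_ker
  have h2 := (LinearMap.range T).finrank_quotient_add_finrank
  have h3 : Module.finrank K (W ⧸ LinearMap.range T) = Module.finrank K A := by rw [hA]; omega
  rw [h3, ← pow_two] at hlt
  exact hlt

/-- The commutant of an operator permuting a basis of commutation eigen-operators. -/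
theorem finrank_commutant_le {Y : Type*} [Group Y] [Fintype Y] [Nontrivial W]
    (T S : Y → Module.End K W) (hTS : ∀ y, T y * S y = 1) (hST : ∀ y, S y * T y = 1)
    (hone : T 1 = 1) (χ : Y → Y → K) (hχ : ∀ a b, T a * T b = χ a b • (T b * T a))
    (hmul : ∀ a b, ∃ c : K, T a * T b = c • T (a * b))
    (horth : ∀ g, g ≠ 1 → ∑ y, χ y g = 0) (hn : (Fintype.card Y : K) ≠ 0)
    (σ : Equiv.Perm Y) (X Xi : Module.End K W) (hX : X * Xi = 1) (hXi : Xi * X = 1)
    (hσ : ∀ y, ∃ c : K, X * T y * Xi = c • T (σ y)) (R : Finset Y)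
    (hR : ∀ y, ∃ r ∈ R, ∃ i : ℕ, (σ ^ i) r = y) (C : Submodule K (Module.End K W))
    (hC : ∀ f ∈ C, f * X = X * f) :
    Fintype.card Y * Module.finrank K C ≤ R.card * Module.finrank K W ^ 2 := by
  classical
  set n : K := (Fintype.card Y : K) with hndef
  have h10 : (1 : Module.End K W) ≠ 0 := one_ne_zero
  have hTne : ∀ y, T y ≠ 0 := fun y h => h10 (by rw [← hTS y, h, zero_mul])
  have hS1 : S 1 = 1 := by rw [← hTS 1, hone, one_mul]
  have hχ1 : ∀ y, χ y 1 = 1 := fun y => by
    have h := hχ y 1
    rw [hone, mul_one, one_mul] at h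
    have h2 : (χ y 1 - 1) • T y = 0 := by rw [sub_smul, one_smul, ← h, sub_self]
    exact sub_eq_zero.1 ((smul_eq_zero.1 h2).resolve_right (hTne y))
  have hinvmul : ∀ a b (c : K), T a * T b = c • T (a * b) → c ≠ 0 ∧ S b * S a = c⁻¹ • S (a * b) := by
    intro a b c h
    have hc : c ≠ 0 := by
      rintro rfl
      rw [zero_smul] at h
      exact h10 (by
        calc (1 : Module.End K W) = S b * (S a * T a) * T b := by rw [hST, mul_one, hST]
          _ = S b * S a * (T a * T b) := by simp only [mul_assoc]
          _ = 0 := by rw [h, mul_zero])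
    refine ⟨hc, ?_⟩
    calc S b * S a = S b * S a * ((c • T (a * b)) * (c⁻¹ • S (a * b))) := by
          rw [smul_mul_smul_comm, mul_inv_cancel₀ hc, one_smul, hTS, mul_one]
      _ = S b * (S a * T a) * T b * (c⁻¹ • S (a * b)) := by rw [← h]; simp only [mul_assoc]
      _ = _ := by rw [hST, mul_one, hST, one_mul]
  -- the components
  let Φ : Y → Module.End K W →ₗ[K] Module.End K W := fun y =>
    { toFun := fun f => n⁻¹ • ∑ g, T g * (S y * f) * S g
      map_add' := fun f f' => by simp [mul_add, add_mul, Finset.sum_add_distrib]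
      map_smul' := fun c f => by simp [Finset.smul_sum, smul_comm n⁻¹ c] }
  let E' : Submodule K (Module.End K W) :=
    { carrier := {f | ∀ h, T h * f = f * T h}
      add_mem' := fun {a b} ha hb h => by rw [mul_add, add_mul, ha h, hb h]
      zero_mem' := fun h => by rw [mul_zero, zero_mul]
      smul_mem' := fun c f hf h => by rw [mul_smul_comm, smul_mul_assoc, hf h] }
  have hΦmem : ∀ y f, Φ y f ∈ E' := by
    intro y f h
    show T h * (n⁻¹ • ∑ g, T g * (S y * f) * S g) = (n⁻¹ • ∑ g, T g * (S y * f) * S g) * T h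
    have key : T h * (∑ g, T g * (S y * f) * S g) * S h = ∑ g, T g * (S y * f) * S g := by
      rw [Finset.mul_sum, Finset.sum_mul]
      refine (Finset.sum_congr rfl fun g _ => ?_).trans
        (Equiv.sum_comp (Equiv.mulLeft h) fun g => T g * (S y * f) * S g)
      obtain ⟨c, hc⟩ := hmul h g
      obtain ⟨hc0, hc'⟩ := hinvmul h g c hc
      calc T h * (T g * (S y * f) * S g) * S h = (T h * T g) * (S y * f) * (S g * S h) := by
            simp only [mul_assoc]
        _ = T (h * g) * (S y * f) * S (h * g) := by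
            rw [hc, hc', smul_mul_assoc, smul_mul_smul_comm, mul_inv_cancel₀ hc0, one_smul]
    rw [mul_smul_comm, smul_mul_assoc]
    congr 1
    conv_rhs => rw [← key]
    rw [mul_assoc _ (S h), hST, mul_one]
  have horth' : ∀ g, ∑ y, χ y g = if g = 1 then n else 0 := by
    intro g
    split_ifs with hg
    · subst hg
      rw [Finset.sum_congr rfl fun y _ => hχ1 y, Finset.sum_const, Finset.card_univ, nsmul_eq_mul,
        mul_one]
    · exact horth g hg
  -- reconstruction
  have hrec : ∀ f, ∑ y, T y * Φ y f = f := by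
    intro f
    show ∑ y, T y * (n⁻¹ • ∑ g, T g * (S y * f) * S g) = f
    simp only [mul_smul_comm, ← Finset.smul_sum, Finset.mul_sum]
    rw [Finset.sum_comm]
    have : ∀ g, ∑ y, T y * (T g * (S y * f) * S g) = (if g = 1 then n else 0) • (T g * f * S g) := by
      intro g
      rw [← horth' g, Finset.sum_smul]
      refine Finset.sum_congr rfl fun y _ => ?_
      calc T y * (T g * (S y * f) * S g) = (T y * T g) * (S y * f * S g) := by simp only [mul_assoc]
        _ = χ y g • (T g * T y * (S y * f * S g)) := by rw [hχ, smul_mul_assoc]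
        _ = χ y g • (T g * (T y * S y) * f * S g) := by simp only [mul_assoc]
        _ = _ := by rw [hTS, mul_one]
    rw [Finset.sum_congr rfl fun g _ => this g, Finset.sum_eq_single 1
      (fun g _ hg => by rw [if_neg hg, zero_smul]) (fun h => absurd (Finset.mem_univ 1) h),
      if_pos rfl, hone, hS1, one_mul, mul_one, smul_smul, inv_mul_cancel₀ hn, one_smul]
  -- dimension of `E'`
  have hE' : Fintype.card Y * Module.finrank K E' ≤ Module.finrank K W ^ 2 := by
    let L : (Y → E') →ₗ[K] Module.End K W :=
      ∑ y, (LinearMap.mulLeft K (T y)).comp (E'.subtype.comp (LinearMap.proj y))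
    have hLi : Function.Injective L := (injective_iff_map_eq_zero L).2 fun Ψ hΨ => by
      have h0 : ∑ y, T y * (Ψ y : Module.End K W) = 0 := by simpa [L] using hΨ
      funext y
      refine Subtype.ext ?_
      have h1 : ∀ y', ∑ g, T g * (S y * (T y' * (Ψ y' : Module.End K W))) * S g =
          if y' = y then n • (Ψ y : Module.End K W) else 0 := by
        intro y'
        obtain ⟨c, hc⟩ := hmul y (y⁻¹ * y')
        rw [mul_inv_cancel_left] at hc
        obtain ⟨hc0, -⟩ := hinvmul y (y⁻¹ * y') c (by rw [mul_inv_cancel_left]; exact hc)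
        have hw : S y * T y' = c⁻¹ • T (y⁻¹ * y') := by
          calc S y * T y' = S y * (c⁻¹ • (T y * T (y⁻¹ * y'))) := by
                rw [hc, smul_smul, inv_mul_cancel₀ hc0, one_smul]
            _ = c⁻¹ • ((S y * T y) * T (y⁻¹ * y')) := by rw [mul_smul_comm, mul_assoc]
            _ = _ := by rw [hST, one_mul]
        have hterm : ∀ g, T g * (S y * (T y' * (Ψ y' : Module.End K W))) * S g =
            (χ g (y⁻¹ * y')) • (c⁻¹ • (T (y⁻¹ * y') * (Ψ y' : Module.End K W))) := by
          intro g
          rw [← mul_assoc (S y), hw, smul_mul_assoc, mul_smul_comm, smul_mul_assoc, smul_comm]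
          congr 1
          calc T g * (T (y⁻¹ * y') * (Ψ y' : Module.End K W)) * S g
              = (T g * T (y⁻¹ * y')) * ((Ψ y' : Module.End K W) * S g) := by simp only [mul_assoc]
            _ = χ g (y⁻¹ * y') • (T (y⁻¹ * y') * ((T g * (Ψ y' : Module.End K W)) * S g)) := by
                rw [hχ, smul_mul_assoc]; simp only [mul_assoc]
            _ = _ := by rw [(Ψ y').2 g, mul_assoc (Ψ y' : Module.End K W), hTS, mul_one]
        rw [Finset.sum_congr rfl fun g _ => hterm g, ← Finset.sum_smul, horth']
        by_cases hy : y' = y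
        · subst hy
          rw [if_pos (inv_mul_cancel y'), if_pos rfl]
          have h2 := hw
          rw [hST, inv_mul_cancel, hone] at h2
          have hcc : c⁻¹ = (1 : K) := by
            have h3 : (c⁻¹ - 1) • (1 : Module.End K W) = 0 := by
              rw [sub_smul, one_smul, ← h2, sub_self]
            exact sub_eq_zero.1 ((smul_eq_zero.1 h3).resolve_right h10)
          rw [inv_mul_cancel, hone, one_mul, hcc, one_smul]
        · rw [if_neg fun h => hy (eq_of_inv_mul_eq_one h).symm, if_neg hy, zero_smul]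
      have h2 : ∑ g, T g * (S y * (∑ y', T y' * (Ψ y' : Module.End K W))) * S g = 0 := by
        rw [h0]; simp
      simp only [Finset.mul_sum, Finset.sum_mul] at h2
      rw [Finset.sum_comm, Finset.sum_congr rfl fun y' _ => h1 y', Finset.sum_ite_eq',
        if_pos (Finset.mem_univ y)] at h2
      exact (smul_eq_zero.1 h2).resolve_left hn
    have := L.finrank_le_finrank_of_injective hLi
    rwa [Module.finrank_pi_fintype, Finset.sum_const, Finset.card_univ, smul_eq_mul,
      Module.finrank_linearMap, ← pow_two] at this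
  -- the commutant
  have hCle : Module.finrank K C ≤ R.card * Module.finrank K E' := by
    let L : C →ₗ[K] (R → E') :=
      LinearMap.pi fun r => ((Φ r).comp C.subtype).codRestrict E' fun f => hΦmem _ _
    have hLi : Function.Injective L := (injective_iff_map_eq_zero L).2 fun f hf => by
      have hfX : X * (f : Module.End K W) * Xi = f := by
        rw [← hC f f.2, mul_assoc, hX, mul_one]
      have hstep : ∀ y, Φ y (f : Module.End K W) = 0 → Φ (σ y) (f : Module.End K W) = 0 := by
        intro y hy
        choose c hc using hσ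
        have hcS : ∀ y, c y ≠ 0 ∧ X * S y * Xi = (c y)⁻¹ • S (σ y) := by
          intro y
          have e : (X * T y * Xi) * (X * S y * Xi) = 1 := by
            calc (X * T y * Xi) * (X * S y * Xi) = X * T y * (Xi * X) * S y * Xi := by
                  simp only [mul_assoc]
              _ = X * (T y * S y) * Xi := by rw [hXi, mul_one]; simp only [mul_assoc]
              _ = 1 := by rw [hTS, mul_one, hX]
          rw [hc y] at e
          have hc0 : c y ≠ 0 := fun h0 => h10 (by rw [← e, h0, zero_smul, zero_mul])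
          refine ⟨hc0, ?_⟩
          calc X * S y * Xi = ((c y)⁻¹ • S (σ y) * (c y • T (σ y))) * (X * S y * Xi) := by
                rw [smul_mul_smul_comm, inv_mul_cancel₀ hc0, one_smul, hST, one_mul]
            _ = _ := by rw [mul_assoc, e, mul_one]
        have h1 : X * (∑ g, T g * (S y * (f : Module.End K W)) * S g) * Xi =
            (c y)⁻¹ • ∑ g, T g * (S (σ y) * (f : Module.End K W)) * S g := by
          rw [Finset.mul_sum, Finset.sum_mul, Finset.smul_sum]
          refine (Finset.sum_congr rfl fun g _ => ?_).trans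
            (Equiv.sum_comp σ fun g => (c y)⁻¹ • (T g * (S (σ y) * (f : Module.End K W)) * S g))
          calc X * (T g * (S y * (f : Module.End K W)) * S g) * Xi
              = (X * T g * Xi) * ((X * S y * Xi) * (X * (f : Module.End K W) * Xi)) * (X * S g * Xi) := by
                simp only [mul_assoc]
                simp only [← mul_assoc Xi X, hXi, one_mul]
            _ = _ := by
                rw [hc g, (hcS y).2, (hcS g).2, hfX]
                simp only [smul_mul_assoc, mul_smul_comm, smul_smul]
                congr 1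
                field_simp [(hcS g).1]
        have hy' : ∑ g, T g * (S y * (f : Module.End K W)) * S g = 0 :=
          (smul_eq_zero.1 hy).resolve_left (inv_ne_zero hn)
        rw [hy', mul_zero, zero_mul] at h1
        show n⁻¹ • _ = (0 : Module.End K W)
        rw [(smul_eq_zero.1 h1.symm).resolve_left (inv_ne_zero (hcS y).1), smul_zero]
      have hall : ∀ y, Φ y (f : Module.End K W) = 0 := by
        intro y
        obtain ⟨r, hr, i, rfl⟩ := hR y
        induction i with
        | zero => exact congrArg Subtype.val (congrFun hf ⟨r, hr⟩)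
        | succ i ih => rw [pow_succ', Equiv.Perm.mul_apply]; exact hstep _ ih
      refine Subtype.ext ?_
      rw [← hrec f, Finset.sum_eq_zero fun y _ => by rw [hall y, mul_zero]]
      rfl
    refine (L.finrank_le_finrank_of_injective hLi).trans (le_of_eq ?_)
    rw [Module.finrank_pi_fintype, Finset.sum_const, Finset.card_univ, Fintype.card_coe, smul_eq_mul]
  calc Fintype.card Y * Module.finrank K C ≤ Fintype.card Y * (R.card * Module.finrank K E') :=
        Nat.mul_le_mul_left _ hCle
    _ = R.card * (Fintype.card Y * Module.finrank K E') := by ring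
    _ ≤ _ := Nat.mul_le_mul_left _ hE'

/-- The transvection case: a quadratic twist. -/
theorem mul_fixed_le_of_quadratic {p : ℕ} [Fact p.Prime] (hp2 : p ≠ 2) (X F Ee : Module.End K W)
    (hF : Function.Injective F) (hEp : Ee ^ p = 1) {ζ : K} (hζ : IsPrimitiveRoot ζ p)
    (hEF : Ee * F = ζ • (F * Ee)) (hXE : X * Ee = Ee * X) {c : K} (hc : c ^ p = 1)
    (hXF : X * F = c • (F * Ee * X)) :
    p * Module.finrank K (LinearMap.ker (X - 1)) ≤ 2 * Module.finrank K W := by
  classical
  have hp : p.Prime := Fact.out
  haveI : NeZero p := ⟨hp.ne_zero⟩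
  set A := LinearMap.ker (X - 1) with hA
  set W0 := LinearMap.ker (Ee - 1) with hW0
  have hFj : ∀ j : ℕ, Function.Injective (F ^ j : Module.End K W) := by
    intro j
    induction j with
    | zero => exact fun u v h => by simpa using h
    | succ j ih => rw [pow_succ]; exact ih.comp hF
  have hEFj : ∀ (j : ℕ) (u : W), Ee u = u → Ee ((F ^ j) u) = ζ ^ j • (F ^ j) u := by
    intro j u hu
    induction j with
    | zero => simp [hu]
    | succ j ih =>
      rw [pow_succ' F, Module.End.mul_apply, ← Module.End.mul_apply Ee, hEF, LinearMap.smul_apply,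
        Module.End.mul_apply, ih, map_smul, smul_smul, ← pow_succ']
  -- `F ^ j` carries the fixed vectors of `Ee` to the eigenspaces
  have hW : p * Module.finrank K W0 ≤ Module.finrank K W := by
    refine mul_finrank_le _ (fun j : Fin p => (F ^ (j : ℕ)).comp W0.subtype) fun v hv => ?_
    have h0 := eq_zero_of_eigen Ee (fun j : Fin p => ζ ^ (j : ℕ)) Finset.univ
      (pow_injective_of_root hζ).injOn (fun j => (F ^ (j : ℕ)) (v j : W))
      (fun j _ => hEFj _ _ (mem_ker_sub_one.1 (v j).2)) hv
    funext j
    refine Subtype.ext (hFj j ?_)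
    rw [h0 j (Finset.mem_univ j)]
    simp
  have hfin : IsOfFinOrder ζ := isOfFinOrder_iff_pow_eq_one.2 ⟨p, hp.pos, hζ.pow_eq_one⟩
  set m : Fin p → K := fun j => c ^ (j : ℕ) * ζ ^ ((j : ℕ).choose 2) with hm
  have hc0 : c ≠ 0 := fun h => by rw [h, zero_pow hp.ne_zero] at hc; exact zero_ne_one hc
  have hζ0 : ζ ≠ 0 := hζ.ne_zero hp.ne_zero
  have hm0 : ∀ j, m j ≠ 0 := fun j => mul_ne_zero (pow_ne_zero _ hc0) (pow_ne_zero _ hζ0)
  have hXFj : ∀ (j : ℕ) (u : W), Ee u = u →
      X ((F ^ j) u) = (c ^ j * ζ ^ (j.choose 2)) • (F ^ j) (X u) := by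
    intro j u hu
    induction j with
    | zero => simp
    | succ j ih =>
      have hXu : Ee (X u) = X u := by rw [← Module.End.mul_apply, ← hXE, Module.End.mul_apply, hu]
      rw [pow_succ' F, Module.End.mul_apply, ← Module.End.mul_apply X, hXF, LinearMap.smul_apply,
        Module.End.mul_apply, Module.End.mul_apply, ih, map_smul, hEFj j _ hXu, map_smul, map_smul,
        smul_smul, smul_smul, Module.End.mul_apply]
      congr 1
      rw [show (j + 1).choose 2 = j + j.choose 2 by
        rw [Nat.choose_succ_succ, Nat.choose_one_right], pow_add ζ, pow_succ]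
      ring
  have hpair : ∀ i j l : Fin p, i ≠ j → i ≠ l → m i = m j → m i = m l → j = l := by
    obtain ⟨s, -, hs⟩ := hζ.eq_pow_of_pow_eq_one hc
    have h2 : ∀ i j : Fin p, i ≠ j → m i = m j →
        (i : ZMod p) + ((j : ℕ) : ZMod p) + 2 * (s : ZMod p) - 1 = 0 := by
      intro i j hij he
      have h1 : ζ ^ (s * i + (i : ℕ).choose 2) = ζ ^ (s * j + (j : ℕ).choose 2) := by
        simpa [hm, ← hs, ← pow_mul, ← pow_add] using he
      rw [hfin.pow_eq_pow_iff_modEq, ← hζ.eq_orderOf, ← ZMod.natCast_eq_natCast_iff] at h1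
      have hch : ∀ n : ℕ, 2 * ((n.choose 2 : ℕ) : ZMod p) = (n : ZMod p) * n - n := by
        intro n
        induction n with
        | zero => simp
        | succ n ih =>
          rw [Nat.choose_succ_succ, Nat.choose_one_right, Nat.cast_add, mul_add, ih]
          push_cast
          ring
      have hprod : ((i : ℕ) - (j : ℕ) : ZMod p) * ((i : ℕ) + (j : ℕ) + 2 * (s : ZMod p) - 1) = 0 := by
        push_cast at h1
        linear_combination 2 * h1 - hch (i : ℕ) + hch (j : ℕ)
      refine (mul_eq_zero.1 hprod).resolve_left fun h0 => hij ?_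
      have := (ZMod.natCast_eq_natCast_iff (i : ℕ) (j : ℕ) p).1 (sub_eq_zero.1 h0)
      exact Fin.ext (this.eq_of_lt_of_lt i.2 j.2)
    intro i j l hij hil h1 h3
    have e1 := h2 i j hij h1
    have e2 := h2 i l hil h3
    have e3 : ((j : ℕ) : ZMod p) = ((l : ℕ) : ZMod p) := by linear_combination e1 - e2
    exact Fin.ext (((ZMod.natCast_eq_natCast_iff _ _ p).1 e3).eq_of_lt_of_lt j.2 l.2)
  -- the pieces of `A`
  let B : Fin p → Submodule K W0 := fun j => LinearMap.ker ((X - (m j)⁻¹ • 1).comp W0.subtype)
  have hB : ∀ (j : Fin p) (u : B j), X (((u : W0) : W)) = (m j)⁻¹ • ((u : W0) : W) := fun j u => by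
    have := LinearMap.mem_ker.1 u.2
    rwa [LinearMap.comp_apply, Submodule.subtype_apply, LinearMap.sub_apply, LinearMap.smul_apply,
      Module.End.one_apply, sub_eq_zero] at this
  have hsmall : ∀ S : Finset (Fin p), Set.InjOn m S →
      ∑ j ∈ S, Module.finrank K (B j) ≤ Module.finrank K W0 := by
    intro S hS
    let L : (Π j : S, B j) →ₗ[K] W0 := ∑ j : S, (B j).subtype.comp (LinearMap.proj j)
    have hLi : Function.Injective L := (injective_iff_map_eq_zero L).2 fun u hu => by
      have h1 : ∑ j : S, (((u j : B j) : W0) : W) = 0 := by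
        have := congrArg (fun t : W0 => (t : W)) hu
        simpa [L] using this
      have h0 := eq_zero_of_eigen X (fun j : S => (m j)⁻¹) Finset.univ
        (fun a _ b _ h => Subtype.ext (hS a.2 b.2 (inv_injective h))) _
        (fun j _ => hB j (u j)) h1
      funext j
      exact Subtype.ext (Subtype.ext (h0 j (Finset.mem_univ j)))
    have := L.finrank_le_finrank_of_injective hLi
    rwa [Module.finrank_pi_fintype, Finset.sum_coe_sort S fun j => Module.finrank K (B j)] at this
  set first := Finset.univ.filter fun i : Fin p => ∀ j, m j = m i → i ≤ j with hfirst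
  have hf1 : Set.InjOn m first := by
    intro a ha b hb he
    simp only [hfirst, Finset.coe_filter, Finset.mem_univ, true_and, Set.mem_setOf_eq] at ha hb
    exact le_antisymm (ha b he.symm) (hb a he)
  have hf2 : Set.InjOn m ↑(firstᶜ : Finset (Fin p)) := by
    intro a ha b hb he
    simp only [hfirst, Finset.coe_compl, Finset.coe_filter, Finset.mem_univ, true_and,
      Set.mem_compl_iff, Set.mem_setOf_eq] at ha hb
    by_contra hne
    push Not at ha hb
    obtain ⟨a', ha1, ha2⟩ := ha
    obtain ⟨b', hb1, hb2⟩ := hb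
    have ea := hpair a a' b ha2.ne' hne ha1.symm he
    have eb := hpair b b' a hb2.ne' (Ne.symm hne) hb1.symm he.symm
    rw [ea] at ha2
    rw [eb] at hb2
    exact absurd ha2 hb2.asymm
  have hsum : ∑ j, Module.finrank K (B j) ≤ 2 * Module.finrank K W0 := by
    rw [← Finset.sum_add_sum_compl first]
    have := hsmall first hf1
    have := hsmall firstᶜ hf2
    omega
  -- projections
  have hpK : (p : K) ≠ 0 := by
    intro h0
    haveI : CharP K p := (CharP.charP_iff_prime_eq_zero hp).2 h0
    have h1 : (ζ - 1) ^ p = 0 := by rw [sub_pow_char, one_pow, hζ.pow_eq_one, sub_self]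
    exact hζ.ne_one hp.one_lt (sub_eq_zero.1 (pow_eq_zero_iff hp.ne_zero |>.1 h1))
  have hE : ∀ i : ℕ, Ee ^ i = Ee ^ (i % p) := fun i => by
    conv_lhs => rw [← Nat.mod_add_div i p, pow_add, pow_mul, hEp, one_pow, mul_one]
  let π : Fin p → Module.End K W := fun j =>
    (p : K)⁻¹ • ∑ i : Fin p, (ζ ^ ((j : ℕ) * i))⁻¹ • Ee ^ (i : ℕ)
  have hπX : ∀ j, X * π j = π j * X := by
    intro j
    have hk : ∀ i : ℕ, X * Ee ^ i = Ee ^ i * X := fun i =>
      ((show Commute X Ee from hXE).pow_right i).eq
    simp only [π, mul_smul_comm, smul_mul_assoc, Finset.mul_sum, Finset.sum_mul, hk]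
  have hπE : ∀ j : Fin p, Ee * π j = ζ ^ (j : ℕ) • π j := by
    intro j
    simp only [π, mul_smul_comm, Finset.mul_sum, ← pow_succ']
    rw [smul_comm (ζ ^ (j : ℕ)), Finset.smul_sum (r := ζ ^ (j : ℕ))]
    congr 1
    refine Fintype.sum_equiv (Equiv.addRight (1 : Fin p)) _ _ fun i => ?_
    simp only [Equiv.coe_addRight, Fin.val_add, Fin.val_one', Nat.add_mod_mod]
    rw [← hE, smul_smul]
    congr 1
    have e : ζ ^ ((j : ℕ) * (((i : ℕ) + 1) % p)) = ζ ^ ((j : ℕ) * i) * ζ ^ (j : ℕ) := by
      rw [← pow_add, show (j : ℕ) * i + j = j * (i + 1) by ring, pow_mul, pow_mul]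
      rw [← pow_mul, ← pow_mul, hfin.pow_eq_pow_iff_modEq, ← hζ.eq_orderOf]
      exact Nat.ModEq.mul_left _ (Nat.mod_modEq _ _)
    rw [e]
    field_simp
  have hπsum : ∑ j, π j = 1 := by
    have hin : ∀ i : Fin p, ∑ j : Fin p, (ζ ^ ((j : ℕ) * i))⁻¹ = if i = 0 then (p : K) else 0 := by
      intro i
      split_ifs with hi
      · subst hi; simp
      · have hr : ((ζ ^ (i : ℕ))⁻¹) ≠ 1 := fun h => hi (Fin.ext (by
          rw [inv_eq_one, hζ.pow_eq_one_iff_dvd] at h
          exact Nat.eq_zero_of_dvd_of_lt h i.2))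
        have h2 : ∀ j : Fin p, (ζ ^ ((j : ℕ) * i))⁻¹ = ((ζ ^ (i : ℕ))⁻¹) ^ (j : ℕ) := fun j => by
          rw [inv_pow, ← pow_mul, mul_comm]
        rw [Finset.sum_congr rfl fun j _ => h2 j, Fin.sum_univ_eq_sum_range
          fun j => ((ζ ^ (i : ℕ))⁻¹) ^ j, geom_sum_eq hr, inv_pow, ← pow_mul, mul_comm (i : ℕ) p,
          pow_mul, hζ.pow_eq_one, one_pow, inv_one, sub_self, zero_div]
    simp only [π, ← Finset.smul_sum]
    rw [Finset.sum_comm]
    simp only [← Finset.sum_smul, hin, ite_smul, zero_smul, Finset.sum_ite_eq', Finset.mem_univ,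
      if_true]
    rw [smul_smul, inv_mul_cancel₀ hpK, one_smul]
    simp
  have hsub : ∀ (j : Fin p), ∀ v ∈ A, ∃ u : B j, (F ^ (j : ℕ)) (((u : W0) : W)) = π j v := by
    intro j v hv
    have hEv : Ee (π j v) = ζ ^ (j : ℕ) • π j v := by
      rw [← Module.End.mul_apply, hπE, LinearMap.smul_apply]
    have hXv : X (π j v) = π j v := by
      rw [← Module.End.mul_apply, hπX, Module.End.mul_apply, mem_ker_sub_one.1 hv]
    obtain ⟨u, hu⟩ := (LinearMap.injective_iff_surjective.1 (hFj j)) (π j v)
    have hEu : Ee u = u := by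
      refine hFj j (smul_right_injective W (pow_ne_zero (j : ℕ) hζ0) ?_)
      show ζ ^ (j : ℕ) • (F ^ (j : ℕ)) (Ee u) = ζ ^ (j : ℕ) • (F ^ (j : ℕ)) u
      rw [hu, ← hEv, ← hu, ← Module.End.mul_apply Ee, ← Module.End.mul_apply,
        ← LinearMap.smul_apply]
      have hk : ∀ i : ℕ, Ee * F ^ i = ζ ^ i • (F ^ i * Ee) := by
        intro i
        induction i with
        | zero => simp
        | succ i ih =>
          rw [pow_succ' F, ← mul_assoc, hEF, smul_mul_assoc, mul_assoc, ih, mul_smul_comm,
            smul_smul, ← pow_succ', ← mul_assoc]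
      rw [hk]
    have hXu : X u = (m j)⁻¹ • u := by
      have h1 := hXFj j u hEu
      rw [hu, hXv, ← hu, ← map_smul] at h1
      have h2 : u = m j • X u := hFj j h1
      conv_rhs => rw [h2, smul_smul, inv_mul_cancel₀ (hm0 j), one_smul]
    exact ⟨⟨⟨u, mem_ker_sub_one.2 hEu⟩, LinearMap.mem_ker.2 (by simp [hXu])⟩, hu⟩
  let Tot : (Π j, B j) →ₗ[K] W :=
    ∑ j : Fin p, (F ^ (j : ℕ)).comp (W0.subtype.comp ((B j).subtype.comp (LinearMap.proj j)))
  have hAle : A ≤ LinearMap.range Tot := by
    intro v hv
    choose u hu using fun j : Fin p => hsub j v hv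
    refine ⟨u, ?_⟩
    have := LinearMap.congr_fun hπsum v
    rw [LinearMap.sum_apply, Module.End.one_apply] at this
    rw [← this]
    simp [Tot, hu]
  have hfA : Module.finrank K A ≤ ∑ j, Module.finrank K (B j) := by
    refine (Submodule.finrank_mono hAle).trans (Tot.finrank_range_le.trans (le_of_eq ?_))
    rw [Module.finrank_pi_fintype]
  calc p * Module.finrank K A ≤ p * (2 * Module.finrank K W0) :=
        Nat.mul_le_mul_left _ (hfA.trans hsum)
    _ = 2 * (p * Module.finrank K W0) := by ring
    _ ≤ _ := Nat.mul_le_mul_left _ hW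

end Cfsg.Agent.FixedHalf
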