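import Cfsg.Agent.Lib.FixedHalf.Abelian
import Cfsg.Agent.Lib.FixedHalf.EndBound
import Cfsg.Agent.Lib.Solvable.Basic
import Mathlib.LinearAlgebra.Dimension.Free
import Mathlib.Algebra.Algebra.Subalgebra.Centralizer
import Mathlib.GroupTheory.GroupAction.ConjAct
import Mathlib.GroupTheory.Commutator.Basic
import Mathlib.Data.Nat.Choose.Dvd
import Mathlib.Tactic.NormNum.Prime
import Mathlib.RingTheory.IntegralDomain

/-!
An element of prime order at least five generating a solvable irreducible linear group normally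
fixes less than half of the space.
-/

set_option autoImplicit false

namespace Cfsg.Agent.FixedHalf

open Subgroup
open scoped commutatorElement

/-- A root of unity of prime order. -/
theorem primitiveRoot_of_prime {K : Type*} [CommMonoid K] {p : ℕ} [hp : Fact p.Prime] {a : K}
    (h1 : a ^ p = 1) (h2 : a ≠ 1) : IsPrimitiveRoot a p :=
  IsPrimitiveRoot.iff_orderOf.2 (orderOf_eq_prime h1 h2)

/-- Powers of a product, with a central commutator of exponent `q` and `q` odd. -/
theorem mul_pow_eq {G : Type*} [Group G] {a b c : G} (hc : b * a = c * (a * b))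
    (hcz : ∀ g, g * c = c * g) (n : ℕ) : (a * b) ^ n = c ^ n.choose 2 * (a ^ n * b ^ n) := by
  have hca : ∀ (i : ℕ) (g : G), g * c ^ i = c ^ i * g := fun i g =>
    ((show Commute g c from hcz g).pow_right i).eq
  have hba : ∀ i : ℕ, b ^ i * a = c ^ i * (a * b ^ i) := by
    intro i
    induction i with
    | zero => simp
    | succ i ih =>
      calc b ^ (i + 1) * a = b ^ i * (c * (a * b)) := by rw [pow_succ, mul_assoc, hc]
        _ = c * (b ^ i * a * b) := by
          rw [← mul_assoc, hcz]; simp only [mul_assoc]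
        _ = c ^ (i + 1) * (a * b ^ (i + 1)) := by
          rw [ih]; simp only [pow_succ', mul_assoc]
          rw [← pow_succ, ← pow_succ']
  induction n with
  | zero => simp
  | succ n ih =>
    calc (a * b) ^ (n + 1) = c ^ n.choose 2 * (a ^ n * ((b ^ n * a) * b)) := by
          rw [pow_succ, ih]; simp only [mul_assoc]
      _ = c ^ n.choose 2 * (c ^ n * (a ^ n * (a * b ^ n) * b)) := by
          rw [hba]; simp only [← mul_assoc]; simp only [mul_assoc]
          rw [← mul_assoc (a ^ n) (c ^ n), hca]; simp only [mul_assoc]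
      _ = _ := by
          rw [Nat.choose_succ_succ, Nat.choose_one_right, pow_succ a, pow_succ b,
            add_comm n, pow_add]
          simp only [mul_assoc]

variable {G : Type*} [Group G] [Finite G] [Group.IsSolvable G]

/-- The bound for a group in which the abelian normal subgroups are central and act as scalars. -/
theorem bound_of_central {K W : Type*} [Field K] [AddCommGroup W] [Module K W]
    [FiniteDimensional K W] [Nontrivial W] (ρ : G →* Module.End K W)
    (hfaith : Function.Injective ρ) {p : ℕ} (hp : p.Prime) (hp5 : 5 ≤ p) {x : G}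
    (hx : x ^ p = 1) (hx1 : x ≠ 1) (hgen : normalClosure ({x} : Set G) = ⊤)
    (hscal : ∀ z ∈ center G, ∃ c : K, ρ z = c • 1)
    (hab : ∀ A : Subgroup G, A.Normal → (∀ a ∈ A, ∀ b ∈ A, a * b = b * a) → A ≤ center G) :
    2 * Module.finrank K (LinearMap.ker (ρ x - 1)) < Module.finrank K W := by
  classical
  haveI := Fact.mk hp
  have hN : 0 < Module.finrank K W := Module.finrank_pos
  have h10 : (1 : Module.End K W) ≠ 0 := one_ne_zero
  have hscal' : ∀ g : G, ∃ c : K, g ∈ center G → ρ g = c • 1 := fun g => by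
    by_cases hg : g ∈ center G
    · obtain ⟨c, hc⟩ := hscal g hg
      exact ⟨c, fun _ => hc⟩
    · exact ⟨0, fun h => absurd h hg⟩
  choose χ hχ using hscal'
  have hinj : ∀ c d : K, c • (1 : Module.End K W) = d • 1 → c = d := fun c d h => by
    have h2 : (c - d) • (1 : Module.End K W) = 0 := by rw [sub_smul, h, sub_self]
    exact sub_eq_zero.1 ((smul_eq_zero.1 h2).resolve_right h10)
  have hχ1 : χ 1 = 1 := hinj _ _ (by rw [← hχ 1 (one_mem _), map_one, one_smul])
  have hχmul : ∀ a b, a ∈ center G → b ∈ center G → χ (a * b) = χ a * χ b := fun a b ha hb =>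
    hinj _ _ (by rw [← hχ _ (mul_mem ha hb), map_mul, hχ a ha, hχ b hb, smul_mul_smul_comm, one_mul])
  have hχpow : ∀ a, a ∈ center G → ∀ i : ℕ, χ (a ^ i) = χ a ^ i := by
    intro a ha i
    induction i with
    | zero => simp [hχ1]
    | succ i ih => rw [pow_succ, hχmul _ _ (pow_mem ha i) ha, ih, pow_succ]
  have hχinj : ∀ a, a ∈ center G → χ a = 1 → a = 1 := fun a ha h =>
    hfaith (by rw [hχ a ha, h, one_smul, map_one])
  have hsm : ∀ z g, z ∈ center G → ρ (z * g) = χ z • ρ g := fun z g hz => by
    rw [map_mul, hχ z hz, smul_mul_assoc, one_mul]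
  -- `x` is not central
  by_cases hxc : x ∈ center G
  · have : LinearMap.ker (ρ x - 1) = ⊥ := by
      refine (Submodule.eq_bot_iff _).2 fun v hv => ?_
      rw [mem_ker_sub_one, hχ x hxc, LinearMap.smul_apply, Module.End.one_apply] at hv
      have h2 : (χ x - 1) • v = 0 := by rw [sub_smul, one_smul, hv, sub_self]
      exact (smul_eq_zero.1 h2).resolve_left (sub_ne_zero.2 fun h => hx1 (hχinj x hxc h))
    rw [this, finrank_bot]
    omega
  set f := QuotientGroup.mk' (center G) with hf
  have hfker : ∀ g, f g = 1 ↔ g ∈ center G := fun g => QuotientGroup.eq_one_iff g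
  haveI : Group.IsSolvable (G ⧸ center G) :=
    Group.isSolvable_of_surjective (QuotientGroup.mk'_surjective _)
  haveI : Nontrivial (G ⧸ center G) := ⟨⟨f x, 1, fun h => hxc ((hfker x).1 h)⟩⟩
  haveI : Group.IsSolvable ↥(⊤ : Subgroup (G ⧸ center G)) :=
    Group.isSolvable_of_isSolvable_injective (⊤ : Subgroup (G ⧸ center G)).subtype_injective
  obtain ⟨E', q, hq, hEn', hE1, -, hEc, hEq, hEpg, hmin⟩ :=
    SolvBasic.exists_minimal_normal_abelian (G := G ⧸ center G) (N := ⊤) inferInstance top_ne_bot
  haveI := hEn'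
  haveI := hEc
  haveI := Fact.mk hq
  set E := E'.comap f with hE
  haveI : E.Normal := hEn'.comap f
  have hfc : ∀ a ∈ E, ∀ b ∈ E, f a * f b = f b * f a := fun a ha b hb =>
    congrArg Subtype.val (mul_comm' (⟨f a, ha⟩ : ↥E') ⟨f b, hb⟩)
  have hcomm : ∀ a ∈ E, ∀ b ∈ E, ⁅a, b⁆ ∈ center G := fun a ha b hb => (hfker _).1 (by
    rw [map_commutatorElement]
    exact commutatorElement_eq_one_iff_mul_comm.2 (hfc a ha b hb))
  have hbil : ∀ a b h, a ∈ E → b ∈ E → h ∈ E → ⁅a * b, h⁆ = ⁅a, h⁆ * ⁅b, h⁆ := by
    intro a b h ha hb hh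
    calc ⁅a * b, h⁆ = a * ⁅b, h⁆ * a⁻¹ * ⁅a, h⁆ := by simp only [commutatorElement_def]; group
      _ = _ := by
        rw [mem_center_iff.1 (hcomm b hb h hh) a, mul_inv_cancel_right]
        exact (mem_center_iff.1 (hcomm b hb h hh) _).symm
  have hskew : ∀ a b : G, ⁅b, a⁆ = ⁅a, b⁆⁻¹ := fun a b => (commutatorElement_inv a b).symm
  have hswap : ∀ a b : G, a * b = ⁅a, b⁆ * (b * a) := fun a b => by
    simp only [commutatorElement_def]; group
  have hrad : ∀ a ∈ E, (∀ h ∈ E, a * h = h * a) → a ∈ center G := by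
    intro a ha hc
    haveI : (centralizer (E : Set G)).Normal := inferInstance
    refine hab (E ⊓ centralizer (E : Set G)) inferInstance ?_ (mem_inf.2 ⟨ha, mem_centralizer_iff.2
      fun h hh => (hc h hh).symm⟩)
    intro u hu v hv
    exact (mem_centralizer_iff.1 (mem_inf.1 hu).2 v (mem_inf.1 hv).1).symm
  have hZE : center G ≤ E := fun z hz => by
    rw [hE, mem_comap, (hfker z).2 hz]; exact one_mem _
  have hcpow : ∀ a h, a ∈ E → h ∈ E → ∀ i : ℕ, ⁅a ^ i, h⁆ = ⁅a, h⁆ ^ i := by
    intro a h ha hh i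
    induction i with
    | zero => simp
    | succ i ih => rw [pow_succ, hbil _ _ _ (pow_mem ha i) ha hh, ih, pow_succ]
  have hEexp : ∀ a ∈ E, a ^ q ∈ center G := fun a ha =>
    (hfker _).1 (by rw [map_pow]; exact hEq _ ha)
  have hcq : ∀ a ∈ E, ∀ h ∈ E, ⁅a, h⁆ ^ q = 1 := fun a ha h hh => by
    rw [← hcpow a h ha hh, commutatorElement_eq_one_iff_mul_comm]
    exact (mem_center_iff.1 (hEexp a ha) h).symm
  -- representatives
  let rep : ↥E' → G := fun y => if y = 1 then 1 else (QuotientGroup.mk'_surjective (center G) (y : G ⧸ center G)).choose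
  have hrep : ∀ y : ↥E', f (rep y) = (y : G ⧸ center G) := fun y => by
    show f (if y = 1 then 1 else _) = _
    split_ifs with h
    · rw [h, map_one]; rfl
    · exact (QuotientGroup.mk'_surjective (center G) (y : G ⧸ center G)).choose_spec
  have hrepE : ∀ y, rep y ∈ E := fun y => by rw [hE, mem_comap, hrep]; exact y.2
  have hrep1 : rep 1 = 1 := if_pos rfl
  have hdiff : ∀ (y : ↥E') (g : G), f g = (y : G ⧸ center G) → ∃ z ∈ center G, g = z * rep y :=
    fun y g hg => ⟨g * (rep y)⁻¹, (hfker _).1 (by rw [map_mul, map_inv, hg, hrep, mul_inv_cancel]),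
      (inv_mul_cancel_right g (rep y)).symm⟩
  have hcz : ∀ (y : ↥E') (g h : G), f g = (y : G ⧸ center G) → h ∈ E →
      ⁅g, h⁆ = ⁅rep y, h⁆ := by
    intro y g h hg hh
    obtain ⟨z, hz, rfl⟩ := hdiff y g hg
    rw [hbil z (rep y) h (hZE hz) (hrepE y) hh,
      commutatorElement_eq_one_iff_mul_comm.2 (mem_center_iff.1 hz h).symm, one_mul]
  let cf : ↥E' → ↥E' → K := fun a b => χ ⁅rep a, rep b⁆
  have hcfmul : ∀ a b h, cf (a * b) h = cf a h * cf b h := by
    intro a b h
    show χ _ = χ _ * χ _
    rw [← hχmul _ _ (hcomm _ (hrepE a) _ (hrepE h)) (hcomm _ (hrepE b) _ (hrepE h)),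
      ← hbil _ _ _ (hrepE a) (hrepE b) (hrepE h),
      hcz (a * b) (rep a * rep b) (rep h) (by rw [map_mul, hrep, hrep]; rfl) (hrepE h)]
  have hnd : ∀ g : ↥E', g ≠ 1 → ∃ b, cf b g ≠ 1 := by
    intro g hg
    by_contra hall
    push Not at hall
    refine hg (Subtype.ext ?_)
    rw [← hrep g, OneMemClass.coe_one, hfker]
    refine hrad _ (hrepE g) fun h hh => ?_
    have h1 : ⁅h, rep g⁆ = 1 := by
      rw [hcz ⟨f h, hh⟩ h (rep g) rfl (hrepE g)]
      exact hχinj _ (hcomm _ (hrepE _) _ (hrepE _)) (hall _)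
    exact (commutatorElement_eq_one_iff_mul_comm.1 h1).symm
  have hcfq : ∀ a b, cf a b ^ q = 1 := fun a b => by
    show χ _ ^ q = 1
    rw [← hχpow _ (hcomm _ (hrepE a) _ (hrepE b)), hcq _ (hrepE a) _ (hrepE b), hχ1]
  obtain ⟨y₁, hy₁⟩ : ∃ y : ↥E', y ≠ 1 := by
    by_contra h
    push Not at h
    exact hE1 (eq_bot_iff.2 fun u hu => mem_bot.2 (congrArg Subtype.val (h ⟨u, hu⟩)))
  have hqK : (q : K) ≠ 0 := by
    intro h0
    haveI : CharP K q := (CharP.charP_iff_prime_eq_zero hq).2 h0
    obtain ⟨b, hb⟩ := hnd y₁ hy₁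
    have h1 : (cf b y₁ - 1) ^ q = 0 := by rw [sub_pow_char, one_pow, hcfq, sub_self]
    exact hb (sub_eq_zero.1 ((pow_eq_zero_iff hq.ne_zero).1 h1))
  haveI := Fintype.ofFinite ↥E'
  obtain ⟨m, hm⟩ := IsPGroup.iff_card.1 hEpg
  have hn : (Fintype.card ↥E' : K) ≠ 0 := by
    rw [← Nat.card_eq_fintype_card, hm, Nat.cast_pow]
    exact pow_ne_zero _ hqK
  have horth : ∀ g : ↥E', g ≠ 1 → ∑ y, cf y g = 0 := by
    intro g hg
    obtain ⟨b, hb⟩ := hnd g hg
    have h1 : ∑ y, cf (b * y) g = ∑ y, cf y g := Equiv.sum_comp (Equiv.mulLeft b) fun y => cf y g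
    simp only [hcfmul, ← Finset.mul_sum] at h1
    have h2 : (cf b g - 1) * ∑ y, cf y g = 0 := by rw [sub_mul, one_mul, h1, sub_self]
    exact (mul_eq_zero.1 h2).resolve_left (sub_ne_zero.2 hb)
  -- the action of `x`
  set ψ : MulAut ↥E' := MulAut.conjNormal (f x) with hψ
  have hψval : ∀ y : ↥E', (ψ y : G ⧸ center G) = f x * y * (f x)⁻¹ := fun y =>
    MulAut.conjNormal_apply _ y
  set σ : Equiv.Perm ↥E' := ψ.toEquiv with hσdef
  have hσp : σ ^ p = 1 := by
    have h1 : MulAut.toPerm ↥E' ψ = σ := rfl
    rw [← h1, hψ, ← map_pow, ← map_pow, ← map_pow, hx, map_one, map_one, map_one]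
  have hσx : ∀ y, f (x * rep y * x⁻¹) = (σ y : G ⧸ center G) := fun y => by
    rw [map_mul, map_mul, map_inv, hrep]; exact (hψval y).symm
  let Cy : Subgroup ↥E' :=
    { carrier := {y | σ y = y}
      mul_mem' := fun {a b} ha hb => by
        show ψ (a * b) = a * b
        rw [map_mul, show ψ a = a from ha, show ψ b = b from hb]
      one_mem' := map_one ψ
      inv_mem' := fun {a} ha => by
        show ψ a⁻¹ = a⁻¹
        rw [map_inv, show ψ a = a from ha] }
  have hCy : ∀ y, y ∈ Cy ↔ σ y = y := fun y => Iff.rfl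
  -- the first case
  by_cases htriv : Cy = ⊤
  · have hxE : ∀ g ∈ E, ⁅x, g⁆ ∈ center G := by
      intro g hg
      have h1 : σ (⟨f g, hg⟩ : ↥E') = ⟨f g, hg⟩ := (hCy _).1 (htriv ▸ mem_top _)
      have h2 := congrArg Subtype.val h1
      rw [← hfker, map_commutatorElement, commutatorElement_def]
      rw [show ((σ ⟨f g, hg⟩ : ↥E') : G ⧸ center G) = f x * f g * (f x)⁻¹ from hψval _] at h2
      rw [h2, mul_inv_cancel]
    obtain ⟨g, hg, hg1⟩ : ∃ g ∈ E, ⁅x, g⁆ ≠ 1 := by
      by_contra h
      push Not at h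
      haveI : (centralizer (E : Set G)).Normal := inferInstance
      have h1 : normalClosure ({x} : Set G) ≤ centralizer (E : Set G) :=
        normalClosure_le_normal (Set.singleton_subset_iff.2 (mem_centralizer_iff.2 fun g hg =>
          (commutatorElement_eq_one_iff_mul_comm.1 (h g hg)).symm))
      rw [hgen, top_le_iff] at h1
      have h2 : E ≤ center G := fun a ha => mem_center_iff.2 fun b =>
        (mem_centralizer_iff.1 (h1 ▸ mem_top b) a ha).symm
      refine hy₁ (Subtype.ext ?_)
      rw [← hrep y₁, OneMemClass.coe_one, hfker]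
      exact h2 (hrepE y₁)
    set z := ⁅x, g⁆ with hz
    have hzc : z ∈ center G := hxE g hg
    have hzp : z ^ p = 1 := by
      have h1 : ∀ i : ℕ, ⁅x ^ i, g⁆ = z ^ i := by
        intro i
        induction i with
        | zero => simp
        | succ i ih =>
          calc ⁅x ^ (i + 1), g⁆ = x ^ i * ⁅x, g⁆ * (x ^ i)⁻¹ * ⁅x ^ i, g⁆ := by
                simp only [commutatorElement_def, pow_succ]; group
            _ = z ^ (i + 1) := by
              rw [ih, ← hz, mem_center_iff.1 hzc, mul_inv_cancel_right, pow_succ']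
      rw [← h1, hx, commutatorElement_one_left]
    have hb := mul_fixed_le_of_twist (ρ x) (ρ g)
      (fun u v h => by
        have := congrArg (ρ g⁻¹) h
        rwa [← Module.End.mul_apply, ← Module.End.mul_apply, ← map_mul, inv_mul_cancel, map_one,
          Module.End.one_apply, Module.End.one_apply] at this)
      (primitiveRoot_of_prime (a := χ z) (by rw [← hχpow z hzc, hzp, hχ1])
        (fun h => hg1 (hχinj z hzc h)))
      (by rw [← map_mul, ← map_mul, ← hsm z _ hzc, ← hswap])
    have := Nat.mul_le_mul_right (Module.finrank K (LinearMap.ker (ρ x - 1))) hp5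
    omega
  -- the index
  have hmod : Nat.card ↥Cy ≡ Nat.card ↥E' [MOD p] := by
    have h1 := Equiv.Perm.card_compl_support_modEq (p := p) (n := 1) (by rwa [pow_one] : σ ^ p ^ 1 = 1)
    rw [show Nat.card ↥Cy = Nat.card {y // σ y = y} from rfl, Nat.card_eq_fintype_card,
      Fintype.card_subtype, Nat.card_eq_fintype_card]
    convert h1 using 2
    ext u; simp
  have hmul := Cy.card_mul_index
  obtain ⟨j, -, hj⟩ := (Nat.dvd_prime_pow hq).1 (hm ▸ Dvd.intro_left _ hmul : Cy.index ∣ q ^ m)
  have hj0 : j ≠ 0 := fun h => htriv (index_eq_one.1 (by rw [hj, h, pow_zero]))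
  rcases Nat.lt_or_ge j 2 with hj2 | hj2
  · -- a hyperplane
    have hidx : Cy.index = q := by rw [hj, show j = 1 by omega, pow_one]
    obtain ⟨u, hu⟩ : ∃ u, u ∉ Cy := by
      by_contra h
      push Not at h
      exact htriv (top_le_iff.1 fun y _ => h y)
    set ω : ↥E' := σ u * u⁻¹ with hω
    have hω1 : ω ≠ 1 := fun h => hu ((hCy u).2 (mul_inv_eq_one.1 h))
    set w := x * rep u * x⁻¹ * (rep u)⁻¹ with hw
    have hwω : f w = (ω : G ⧸ center G) := by
      rw [hw, map_mul, hσx, map_inv, hrep]; rfl
    have hwE : w ∈ E := by rw [hE, mem_comap, hwω]; exact ω.2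
    have hCyw : ∀ h ∈ Cy, cf h ω = 1 := by
      intro h hh
      show χ _ = 1
      obtain ⟨z, hz, hzh⟩ := hdiff h (x * rep h * x⁻¹) (by rw [hσx, (hCy h).1 hh])
      have e1 : ⁅rep h, rep u⁆ = ⁅rep h, w * rep u⁆ := by
        calc ⁅rep h, rep u⁆ = x * ⁅rep h, rep u⁆ * x⁻¹ := by
              rw [mem_center_iff.1 (hcomm _ (hrepE h) _ (hrepE u)) x, mul_inv_cancel_right]
          _ = ⁅x * rep h * x⁻¹, x * rep u * x⁻¹⁆ := by simp only [commutatorElement_def]; group
          _ = ⁅rep h, w * rep u⁆ := by
            rw [hzh, hcz h (z * rep h) _ (by rw [map_mul, (hfker z).2 hz, one_mul, hrep])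
              ((inferInstance : E.Normal).conj_mem _ (hrepE u) x), hw, inv_mul_cancel_right]
      rw [hskew (w * rep u), hbil _ _ _ hwE (hrepE u) (hrepE h), hskew (rep u) (rep h)] at e1
      have e2 : ⁅w, rep h⁆ = 1 := by
        rw [inv_inj] at e1
        exact mul_right_cancel (b := ⁅rep u, rep h⁆) (e1.symm.trans (one_mul _).symm)
      rw [hskew (rep ω), ← hcz ω w (rep h) hwω (hrepE h), e2, inv_one, hχ1]
    let Kw : Subgroup ↥E' :=
      { carrier := {y | cf y ω = 1}
        mul_mem' := fun {a b} ha hb => by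
          show cf (a * b) ω = 1
          rw [hcfmul, ha, hb, one_mul]
        one_mem' := by
          show χ ⁅rep 1, rep ω⁆ = 1
          rw [hrep1, commutatorElement_one_left, hχ1]
        inv_mem' := fun {a} ha => by
          show cf a⁻¹ ω = 1
          have h1 := hcfmul a⁻¹ a ω
          rw [inv_mul_cancel, show cf a ω = 1 from ha, mul_one] at h1
          rw [← h1]
          show χ ⁅rep 1, rep ω⁆ = 1
          rw [hrep1, commutatorElement_one_left, hχ1] }
    have hKw : Kw = Cy := by
      have hle : Cy ≤ Kw := fun h hh => hCyw h hh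
      have hne : Kw ≠ ⊤ := fun h => by
        obtain ⟨b, hb⟩ := hnd ω hω1
        exact hb (show b ∈ Kw from h ▸ mem_top b)
      have h1 := relIndex_mul_index hle
      rw [hidx] at h1
      rcases (Nat.dvd_prime hq).1 (Dvd.intro_left _ h1) with h2 | h2
      · exact absurd (index_eq_one.1 h2) hne
      · rw [h2, mul_eq_right₀ hq.ne_zero, relIndex_eq_one] at h1
        exact le_antisymm h1 hle
    have hωfix : σ ω = ω := (hCy ω).1 (hKw ▸ (show cf ω ω = 1 by
      show χ _ = 1
      rw [commutatorElement_self, hχ1] : ω ∈ Kw))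
    have hσu : ∀ i : ℕ, (σ ^ i) u = ω ^ i * u := by
      intro i
      induction i with
      | zero => simp
      | succ i ih =>
        rw [pow_succ', Equiv.Perm.mul_apply, ih]
        show ψ _ = _
        rw [map_mul, map_pow, show ψ ω = ω from hωfix, pow_succ, mul_assoc]
        congr 1
        rw [hω]
        show σ u = σ u * u⁻¹ * u
        rw [inv_mul_cancel_right]
    have hωq : ω ^ q = 1 := Subtype.ext (by rw [SubmonoidClass.coe_pow]; exact hEq _ ω.2)
    have hωp : ω ^ p = 1 := by
      have h1 := hσu p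
      rw [hσp, Equiv.Perm.one_apply] at h1
      exact mul_eq_right.1 h1.symm
    have hqp : q = p := by
      by_contra hne
      exact hω1 (by
        have h1 : ω ^ Nat.gcd q p = 1 := pow_gcd_eq_one.2 ⟨hωq, hωp⟩
        rwa [(Nat.coprime_primes hq hp).2 hne, pow_one] at h1)
    subst hqp
    have hodd : ∀ a b, a ∈ E → b ∈ E → (a * b) ^ q = a ^ q * b ^ q := by
      intro a b ha hb
      rw [mul_pow_eq (c := ⁅b, a⁆) (hswap b a) (fun g => mem_center_iff.1 (hcomm b hb a ha) g) q]
      obtain ⟨r, hr⟩ : q ∣ q.choose 2 := hq.dvd_choose_self (by norm_num) (by omega)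
      rw [hr, pow_mul, hcq b hb a ha, one_pow, one_mul]
    let Y0 : Subgroup G :=
      { carrier := {e | e ∈ E ∧ ∃ z ∈ center G, e ^ q = z ^ q}
        mul_mem' := fun {a b} ha hb => by
          obtain ⟨ha, z, hz, hza⟩ := ha
          obtain ⟨hb, z', hz', hzb⟩ := hb
          refine ⟨mul_mem ha hb, z * z', mul_mem hz hz', ?_⟩
          rw [hodd a b ha hb, hza, hzb,
            (show Commute z z' from (mem_center_iff.1 hz z').symm).mul_pow]
        one_mem' := ⟨one_mem _, 1, one_mem _, rfl⟩
        inv_mem' := fun {a} ha => by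
          obtain ⟨ha, z, hz, hza⟩ := ha
          exact ⟨inv_mem ha, z⁻¹, inv_mem hz, by rw [inv_pow, inv_pow, hza]⟩ }
    have hY0 : Y0.Normal := ⟨fun e he g => by
      obtain ⟨he, z, hz, hze⟩ := he
      refine ⟨(inferInstance : E.Normal).conj_mem e he g, z, hz, ?_⟩
      rw [conj_pow, hze, mem_center_iff.1 (pow_mem hz q) g, mul_inv_cancel_right]⟩
    have hZY0 : center G ≤ Y0 := fun z hz => ⟨hZE hz, z, hz, rfl⟩
    have hY0E : E ≤ Y0 := by
      have hYmap : (Y0.map f).Normal := hY0.map f (QuotientGroup.mk'_surjective _)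
      have hYle : Y0.map f ≤ E' := by
        rintro _ ⟨e, he, rfl⟩
        exact he.1
      rcases hmin _ hYmap hYle with h | h
      · exfalso
        have hY : ∀ e ∈ Y0, e ∈ center G := fun e he => (hfker e).1 (mem_bot.1 (h ▸ mem_map_of_mem f he))
        haveI : IsCyclic ↥(center G) := by
          let φ : ↥(center G) →* K :=
            { toFun := fun z => χ z
              map_one' := hχ1
              map_mul' := fun a b => hχmul _ _ a.2 b.2 }
          exact isCyclic_of_subgroup_isDomain φ fun a b hab' => Subtype.ext (hfaith (by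
            rw [hχ a a.2, hχ b b.2, show χ a = χ b from hab']))
        obtain ⟨t, ht⟩ := IsCyclic.exists_generator (α := ↥(center G))
        have hint : ∀ z ∈ center G, ∃ i : ℕ, z = (t : G) ^ i := fun z hz => by
          obtain ⟨i, hi⟩ := (isOfFinOrder_of_finite t).mem_powers_iff_mem_zpowers.2 (ht ⟨z, hz⟩)
          exact ⟨i, congrArg Subtype.val hi.symm⟩
        have htc : ∀ i : ℤ, (t : G) ^ i ∈ center G := fun i => zpow_mem t.2 i
        obtain ⟨a, ha⟩ := hint _ (hEexp _ hwE)
        obtain ⟨b, hb⟩ := hint _ (hEexp _ (hrepE u))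
        have hcw : ∀ z ∈ center G, w ^ q = z ^ q → False := fun z hz he => by
          refine hω1 (Subtype.ext ?_)
          rw [← hwω, OneMemClass.coe_one, hfker]
          exact hY w ⟨hwE, z, hz, he⟩
        by_cases hqa : q ∣ a
        · obtain ⟨a', rfl⟩ := hqa
          exact hcw ((t : G) ^ a') (pow_mem t.2 _) (by rw [ha, ← pow_mul, mul_comm])
        · obtain ⟨i, hi⟩ : ∃ i : ℕ, q ∣ b + i * a := by
            refine ⟨(-(b : ZMod q) * (a : ZMod q)⁻¹).val, (ZMod.natCast_eq_zero_iff _ _).1 ?_⟩
            have ha0 : (a : ZMod q) ≠ 0 := fun h0 => hqa ((ZMod.natCast_eq_zero_iff _ _).1 h0)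
            rw [Nat.cast_add, Nat.cast_mul, ZMod.natCast_val, ZMod.cast_id, inv_mul_cancel_right₀ ha0,
              add_neg_cancel]
          obtain ⟨s, hs⟩ := hi
          have hmem : rep u * w ^ i ∈ Y0 := ⟨mul_mem (hrepE u) (pow_mem hwE i), (t : G) ^ s,
            pow_mem t.2 _, by
              rw [hodd _ _ (hrepE u) (pow_mem hwE i), ← pow_mul w, mul_comm i, pow_mul, hb, ha,
                ← pow_mul, ← pow_add, mul_comm a, hs, ← pow_mul, mul_comm]⟩
          have h1 : u * ω ^ i = 1 := Subtype.ext (by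
            rw [Subgroup.coe_mul, SubmonoidClass.coe_pow, ← hwω, ← hrep u, ← map_pow, ← map_mul,
              OneMemClass.coe_one, hfker]
            exact hY _ hmem)
          refine hu ?_
          rw [mul_eq_one_iff_eq_inv] at h1
          rw [h1]
          exact inv_mem (pow_mem ((hCy ω).2 hωfix) i)
      · intro e he
        obtain ⟨e', he', hee⟩ : f e ∈ Y0.map f := h.symm ▸ he
        have h1 : e * e'⁻¹ ∈ center G :=
          (hfker _).1 (by rw [map_mul, map_inv, hee, mul_inv_cancel])
        have := mul_mem (hZY0 h1) he'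
        rwa [inv_mul_cancel_right] at this
    obtain ⟨-, z, hz, hzw⟩ := hY0E hwE
    set e := w * z⁻¹ with he
    have heE : e ∈ E := mul_mem hwE (hZE (inv_mem hz))
    have heω : f e = (ω : G ⧸ center G) := by
      rw [he, map_mul, (hfker _).2 (inv_mem hz), mul_one, hwω]
    have heq1 : e ^ q = 1 := by
      rw [he, (show Commute w z⁻¹ from mem_center_iff.1 (inv_mem hz) w).mul_pow, hzw, inv_pow,
        mul_inv_cancel]
    obtain ⟨c, hc, hce⟩ : ∃ c ∈ center G, x * e * x⁻¹ = c * e := by
      refine ⟨x * e * x⁻¹ * e⁻¹, (hfker _).1 ?_, (inv_mul_cancel_right _ _).symm⟩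
      have h2 : f x * (ω : G ⧸ center G) * (f x)⁻¹ = ω :=
        (hψval ω).symm.trans (congrArg Subtype.val hωfix)
      rw [map_mul, map_mul, map_mul, map_inv, map_inv, heω, h2, mul_inv_cancel]
    have hxe : x * e = c * (e * x) :=
      (inv_mul_cancel_right _ x).symm.trans ((congrArg (· * x) hce).trans (mul_assoc _ _ _))
    have hρinj : ∀ g : G, Function.Injective (ρ g) := fun g u v h => by
      have := congrArg (ρ g⁻¹) h
      rwa [← Module.End.mul_apply, ← Module.End.mul_apply, ← map_mul, inv_mul_cancel, map_one,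
        Module.End.one_apply, Module.End.one_apply] at this
    have hcq1 : c ^ q = 1 := by
      have h1 := congrArg (· ^ q) hce
      simp only [conj_pow, (show Commute c e from (mem_center_iff.1 hc e).symm).mul_pow, heq1,
        mul_one, mul_inv_cancel] at h1
      exact h1.symm
    by_cases hc1 : c = 1
    swap
    · have hb := mul_fixed_le_of_twist (ρ x) (ρ e) (hρinj e)
        (primitiveRoot_of_prime (p := q) (a := χ c) (by rw [← hχpow c hc, hcq1, hχ1])
          (fun h => hc1 (hχinj c hc h)))
        (by rw [← map_mul, ← map_mul, ← hsm c _ hc, hxe])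
      have := Nat.mul_le_mul_right (Module.finrank K (LinearMap.ker (ρ x - 1))) hp5
      omega
    subst hc1
    rw [one_mul] at hxe
    set g := rep u with hg
    set ζc := ⁅e, g⁆ with hζc
    have hζc1 : ζc ≠ 1 := by
      intro h
      refine hu (hKw ▸ (show cf u ω = 1 by
        show χ _ = 1
        rw [hskew, ← hcz ω e (rep u) heω (hrepE u), ← hg, ← hζc, h, inv_one, hχ1] : u ∈ Kw))
    have hζcc : ζc ∈ center G := hcomm e heE g (hrepE u)
    have hxg : x * g * x⁻¹ = z * (e * g) := by
      rw [he, mem_center_iff.1 (inv_mem hz) w, ← mul_assoc z, ← mul_assoc z, mul_inv_cancel,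
        one_mul, hw, hg, inv_mul_cancel_right]
    have hzq : z ^ q = 1 := by
      have h1 : ∀ i : ℕ, x ^ i * g * (x ^ i)⁻¹ = z ^ i * (e ^ i * g) := by
        intro i
        induction i with
        | zero => simp
        | succ i ih =>
          have hxei : x * e ^ i * x⁻¹ = e ^ i := by
            rw [((show Commute x e from hxe).pow_right i).eq, mul_inv_cancel_right]
          calc x ^ (i + 1) * g * (x ^ (i + 1))⁻¹ = x * (x ^ i * g * (x ^ i)⁻¹) * x⁻¹ := by
                rw [pow_succ']; group
            _ = x * z ^ i * x⁻¹ * (x * e ^ i * x⁻¹) * (x * g * x⁻¹) := by rw [ih]; group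
            _ = z ^ i * e ^ i * (z * (e * g)) := by
              rw [mem_center_iff.1 (pow_mem hz i) x, mul_inv_cancel_right, hxei, hxg]
            _ = _ := by
              rw [pow_succ, pow_succ, ← mul_assoc (z ^ i * e ^ i) z,
                mul_assoc (z ^ i) (e ^ i) z, mem_center_iff.1 hz (e ^ i)]
              simp only [mul_assoc]
      have h2 := h1 q
      rw [hx, heq1, one_mul, inv_one, mul_one] at h2
      exact mul_eq_right.1 h2.symm
    have hb := mul_fixed_le_of_quadratic (p := q) (by omega) (ρ x) (ρ g) (ρ e) (hρinj g)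
      (by rw [← map_pow, heq1, map_one])
      (primitiveRoot_of_prime (p := q) (a := χ ζc)
        (by rw [← hχpow _ hζcc, hζc, hcq e heE g (hrepE u), hχ1])
        (fun h => hζc1 (hχinj _ hζcc h)))
      (by rw [← map_mul, ← map_mul, ← hsm _ _ hζcc, ← hswap])
      (by rw [← map_mul, ← map_mul, hxe])
      (c := χ (z * ζc))
      (by rw [← hχpow _ (mul_mem hz hζcc),
        (show Commute z ζc from (mem_center_iff.1 hz ζc).symm).mul_pow, hzq, one_mul, hζc,
        hcq e heE g (hrepE u), hχ1])
      (by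
        rw [← map_mul, ← map_mul, ← map_mul, ← hsm _ _ (mul_mem hz hζcc)]
        congr 1
        calc x * g = x * g * x⁻¹ * x := (inv_mul_cancel_right _ _).symm
          _ = z * (e * g) * x := by rw [hxg]
          _ = _ := by rw [hswap e g, ← hζc]; simp only [mul_assoc])
    have := Nat.mul_le_mul_right (Module.finrank K (LinearMap.ker (ρ x - 1))) hp5
    omega
  · -- many moved points
    obtain ⟨R, hR1, hR2⟩ := exists_reps hp σ hσp
    have hcpos : 0 < Nat.card ↥Cy := Nat.card_pos
    have hD : 4 * (p - 1) ≤ (p - 4) * Cy.index := by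
      obtain ⟨d, rfl⟩ : ∃ d, p = d + 5 := ⟨p - 5, by omega⟩
      rw [show d + 5 - 1 = d + 4 by omega, show d + 5 - 4 = d + 1 by omega, hj]
      have hq2 := hq.two_le
      by_cases hqp : q = d + 5
      · have h1 : (d + 5) * (d + 5) ≤ q ^ j := by
          rw [← hqp, ← pow_two]; exact Nat.pow_le_pow_right hq.pos hj2
        nlinarith
      · have hcop : (d + 5).Coprime (Nat.card ↥Cy) := by
          obtain ⟨i, -, hi⟩ := (Nat.dvd_prime_pow hq).1
            (hm ▸ Dvd.intro _ hmul : Nat.card ↥Cy ∣ q ^ m)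
          rw [hi]
          exact ((Nat.coprime_primes hp hq).2 (Ne.symm hqp)).pow_right i
        rw [← hmul] at hmod
        have h1 : 1 ≡ Cy.index [MOD d + 5] :=
          Nat.ModEq.cancel_left_of_coprime hcop (by rwa [mul_one])
        have hD4 : 4 ≤ q ^ j := (by norm_num : 4 ≤ 2 ^ 2).trans
          ((Nat.pow_le_pow_left hq2 2).trans (Nat.pow_le_pow_right hq.pos hj2))
        rw [hj] at h1
        obtain ⟨t, ht⟩ := (Nat.modEq_iff_dvd' (by omega)).1 h1
        have ht' : q ^ j = (d + 5) * t + 1 := by omega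
        have ht1 : 1 ≤ t := by
          rcases Nat.eq_zero_or_pos t with rfl | h
          · omega
          · exact h
        rcases Nat.lt_or_ge d 2 with hd | hd
        · interval_cases d
          · -- `p = 5`
            by_contra hlt
            push Not at hlt
            simp only [Nat.zero_add, one_mul] at hlt ht'
            have hq4 : q < 4 := by
              by_contra hq4
              push Not at hq4
              have := (Nat.pow_le_pow_left hq4 2).trans (Nat.pow_le_pow_right hq.pos hj2)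
              omega
            have hj4 : j < 4 := by
              by_contra hj4
              push Not at hj4
              have := (Nat.pow_le_pow_right hq.pos hj4)
              have := Nat.pow_le_pow_left hq2 4
              omega
            interval_cases q <;> interval_cases j <;> omega
          · exact absurd hp (by norm_num)
        · nlinarith
    have hR4 : 4 * R.card ≤ Fintype.card ↥E' := by
      rw [← Nat.card_eq_fintype_card, ← hmul]
      refine Nat.le_of_mul_le_mul_left ?_ hp.pos
      rw [show Nat.card {y // σ y = y} = Nat.card ↥Cy from rfl] at hR2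
      have h1 := Nat.mul_le_mul_left (Nat.card ↥Cy) hD
      have h2 : p = p - 4 + 4 := by omega
      calc p * (4 * R.card) = 4 * (p * R.card) := by ring
        _ ≤ 4 * (Nat.card ↥E' + (p - 1) * Nat.card ↥Cy) := Nat.mul_le_mul_left _ hR2
        _ = 4 * (Nat.card ↥Cy * Cy.index) + Nat.card ↥Cy * (4 * (p - 1)) := by rw [hmul]; ring
        _ ≤ 4 * (Nat.card ↥Cy * Cy.index) + Nat.card ↥Cy * ((p - 4) * Cy.index) :=
            Nat.add_le_add_left h1 _
        _ = (p - 4 + 4) * (Nat.card ↥Cy * Cy.index) := by ring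
        _ = _ := by rw [← h2]
    have hinvl : ∀ g : G, ρ g⁻¹ * ρ g = 1 := fun g => by rw [← map_mul, inv_mul_cancel, map_one]
    have hinvr : ∀ g : G, ρ g * ρ g⁻¹ = 1 := fun g => by rw [← map_mul, mul_inv_cancel, map_one]
    let C : Submodule K (Module.End K W) :=
      { carrier := {F | F * ρ x = ρ x * F}
        add_mem' := fun {a b} ha hb => by
          show (a + b) * _ = _
          rw [add_mul, mul_add, show a * ρ x = _ from ha, show b * ρ x = _ from hb]
        zero_mem' := by
          show 0 * _ = _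
          rw [zero_mul, mul_zero]
        smul_mem' := fun c F hF => by
          show c • F * _ = _
          rw [smul_mul_assoc, show F * ρ x = _ from hF, mul_smul_comm] }
    have hXne : ρ x ≠ 1 := fun h => hx1 (hfaith (h.trans (map_one ρ).symm))
    have hsq := sq_fixed_lt_commutant hXne C fun F hF => hF
    have hcomb := finrank_commutant_le (fun y : ↥E' => ρ (rep y)) (fun y => ρ (rep y)⁻¹)
      (fun y => hinvr _) (fun y => hinvl _) (by rw [hrep1, map_one]) cf
      (fun a b => by
        rw [← map_mul, ← map_mul, ← hsm _ _ (hcomm _ (hrepE a) _ (hrepE b)), ← hswap])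
      (fun a b => by
        obtain ⟨z, hz, hzab⟩ := hdiff (a * b) (rep a * rep b)
          (by rw [map_mul, hrep, hrep]; rfl)
        exact ⟨χ z, by rw [← map_mul, hzab, hsm _ _ hz]⟩)
      horth hn σ (ρ x) (ρ x⁻¹) (hinvr x) (hinvl x)
      (fun y => by
        obtain ⟨z, hz, hzy⟩ := hdiff (σ y) (x * rep y * x⁻¹) (hσx y)
        exact ⟨χ z, by rw [← map_mul, ← map_mul, hzy, hsm _ _ hz]⟩)
      R hR1 C (fun F hF => hF)
    set a := Module.finrank K (LinearMap.ker (ρ x - 1))
    set N := Module.finrank K W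
    set n := Fintype.card ↥E'
    have hnpos : 0 < n := Fintype.card_pos
    have h1 : 4 * Module.finrank K C * n ≤ N ^ 2 * n := by
      calc 4 * Module.finrank K C * n = 4 * (n * Module.finrank K C) := by ring
        _ ≤ 4 * (R.card * N ^ 2) := Nat.mul_le_mul_left _ hcomb
        _ = 4 * R.card * N ^ 2 := by ring
        _ ≤ n * N ^ 2 := Nat.mul_le_mul_right _ hR4
        _ = _ := by ring
    have h2 : (2 * a) ^ 2 < N ^ 2 := by
      have := Nat.le_of_mul_le_mul_right h1 hnpos
      rw [mul_pow]
      omega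
    exact lt_of_pow_lt_pow_left₀ 2 (Nat.zero_le _) h2

/-- The fixed space of a generating element of prime order is less than half. -/
theorem bound {k V : Type*} [Field k] [AddCommGroup V] [Module k V] [FiniteDimensional k V]
    [Nontrivial V] (ρ : G →* Module.End k V) (hfaith : Function.Injective ρ)
    (hirr : ∀ W : Submodule k V, (∀ g, ∀ v ∈ W, ρ g v ∈ W) → W = ⊥ ∨ W = ⊤)
    {p : ℕ} (hp : p.Prime) (hp5 : 5 ≤ p) {x : G} (hx : x ^ p = 1) (hx1 : x ≠ 1)
    (hgen : normalClosure ({x} : Set G) = ⊤) :
    2 * Module.finrank k (LinearMap.ker (ρ x - 1)) < Module.finrank k V := by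
  classical
  by_contra hbound
  have hab : ∀ A : Subgroup G, A.Normal → (∀ a ∈ A, ∀ b ∈ A, a * b = b * a) → A ≤ center G := by
    intro A hA habA
    haveI := hA
    have hc := (bound_or_commute ρ hfaith hirr hp hp5 hx hgen A habA).resolve_left hbound
    have h1 : normalClosure ({x} : Set G) ≤ centralizer (A : Set G) :=
      normalClosure_le_normal (Set.singleton_subset_iff.2 (mem_centralizer_iff.2 fun a ha =>
        (hc a ha).symm))
    rw [hgen, top_le_iff] at h1
    exact fun a ha => mem_center_iff.2 fun b => (mem_centralizer_iff.1 (h1 ▸ mem_top b) a ha).symm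
  have hF := (bound_or_isField ρ hirr hp hp5 hx hgen (center G)
    fun a _ b hb => mem_center_iff.1 hb a).resolve_left hbound
  set R := Algebra.adjoin k (ρ '' (center G : Set G)) with hR
  letI := hF.toField
  have hcen : ∀ (r : ↥R) (g : G), (r : Module.End k V) * ρ g = ρ g * r := by
    intro r g
    obtain ⟨r, hr⟩ := r
    show r * ρ g = ρ g * r
    induction hr using Algebra.adjoin_induction with
    | mem r hr =>
      obtain ⟨a, ha, rfl⟩ := hr
      rw [← map_mul, ← map_mul, mem_center_iff.1 ha g]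
    | algebraMap c => exact Algebra.commutes c (ρ g)
    | add r s _ _ h1 h2 => rw [add_mul, mul_add, h1, h2]
    | mul r s _ _ h1 h2 => rw [mul_assoc, h2, ← mul_assoc, h1, mul_assoc]
  haveI : IsScalarTower k ↥R V := ⟨fun c r v => rfl⟩
  haveI : FiniteDimensional ↥R V := Module.Finite.of_restrictScalars_finite k ↥R V
  let ρ' : G →* Module.End ↥R V :=
    { toFun := fun g =>
        { toFun := ρ g
          map_add' := map_add (ρ g)
          map_smul' := fun r v => (LinearMap.congr_fun (hcen r g) v).symm }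
      map_one' := LinearMap.ext fun v => LinearMap.congr_fun (map_one ρ) v
      map_mul' := fun g h => LinearMap.ext fun v => LinearMap.congr_fun (map_mul ρ g h) v }
  have hfaith' : Function.Injective ρ' := fun g h e =>
    hfaith (LinearMap.ext fun v => LinearMap.congr_fun e v)
  have hb := bound_of_central ρ' hfaith' hp hp5 hx hx1 hgen
    (fun z hz => ⟨⟨ρ z, Algebra.subset_adjoin ⟨z, hz, rfl⟩⟩, LinearMap.ext fun v => rfl⟩) hab
  have hker : (LinearMap.ker (ρ' x - 1)).restrictScalars k = LinearMap.ker (ρ x - 1) := by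
    ext v
    simp only [Submodule.restrictScalars_mem, mem_ker_sub_one]
    rfl
  have h1 := Module.finrank_mul_finrank k ↥R V
  have h2 : Module.finrank k ↥R * Module.finrank ↥R (LinearMap.ker (ρ' x - 1)) =
      Module.finrank k (LinearMap.ker (ρ x - 1)) := by
    rw [Module.finrank_mul_finrank, ← hker]
    exact (((LinearMap.ker (ρ' x - 1)).restrictScalarsEquiv k ↥R V).restrictScalars k).finrank_eq.symm
  have hpos : 0 < Module.finrank k ↥R := Module.finrank_pos
  refine hbound ?_
  rw [← h1, ← h2, ← mul_assoc, mul_comm 2, mul_assoc]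
  exact Nat.mul_lt_mul_of_pos_left hb hpos

end Cfsg.Agent.FixedHalf
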