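import Mathlib.LinearAlgebra.Vandermonde
import Mathlib.LinearAlgebra.Dimension.Constructions
import Mathlib.LinearAlgebra.FiniteDimensional.Basic
import Mathlib.GroupTheory.OrderOfElement

/-!
Tools for bounding the fixed space of an element of prime order.
-/

set_option autoImplicit false

namespace Cfsg.Agent.FixedHalf

/-- Orbit representatives of a permutation of prime order. -/
theorem exists_reps {Y : Type*} [Finite Y] {p : ℕ} (hp : p.Prime) (σ : Equiv.Perm Y)
    (hσ : σ ^ p = 1) :
    ∃ R : Finset Y, (∀ y, ∃ r ∈ R, ∃ i : ℕ, (σ ^ i) r = y) ∧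
      p * R.card ≤ Nat.card Y + (p - 1) * Nat.card {y // σ y = y} := by
  classical
  have := Fintype.ofFinite Y
  suffices hs : ∀ n, ∀ S : Finset Y, S.card = n → (∀ y ∈ S, σ y ∈ S) →
      ∃ R : Finset Y, (∀ y ∈ S, ∃ r ∈ R, ∃ i : ℕ, (σ ^ i) r = y) ∧
        p * R.card ≤ S.card + (p - 1) * (S.filter fun y => σ y = y).card by
    obtain ⟨R, h1, h2⟩ := hs _ Finset.univ rfl fun y _ => Finset.mem_univ _
    refine ⟨R, fun y => h1 y (Finset.mem_univ y), h2.trans (le_of_eq ?_)⟩
    rw [Finset.card_univ, Nat.card_eq_fintype_card, Nat.card_eq_fintype_card,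
      Fintype.card_subtype]
  intro n
  induction n using Nat.strong_induction_on with
  | _ n ih =>
    intro S hn hS
    rcases S.eq_empty_or_nonempty with rfl | ⟨y, hy⟩
    · exact ⟨∅, fun y hy => absurd hy (Finset.notMem_empty y), by simp⟩
    have hpow : ∀ (i : ℕ) {z : Y}, z ∈ S → (σ ^ i) z ∈ S := by
      intro i
      induction i with
      | zero => intro z hz; simpa using hz
      | succ i hi => intro z hz; rw [pow_succ', Equiv.Perm.mul_apply]; exact hS _ (hi hz)
    set O := (Finset.range p).image fun i => (σ ^ i) y with hO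
    have hmemO : ∀ i : ℕ, (σ ^ i) y ∈ O := fun i => by
      refine Finset.mem_image.2 ⟨i % p, Finset.mem_range.2 (Nat.mod_lt _ hp.pos), ?_⟩
      conv_rhs => rw [← Nat.mod_add_div i p, pow_add, pow_mul, hσ, one_pow, mul_one]
    have hOS : O ⊆ S := fun z hz => by
      obtain ⟨i, -, rfl⟩ := Finset.mem_image.1 hz
      exact hpow i hy
    have hyO : y ∈ O := by simpa using hmemO 0
    have hinv : ∀ z, σ z ∈ O → z ∈ O := by
      intro z hz
      obtain ⟨i, -, hi⟩ := Finset.mem_image.1 hz
      have : (σ ^ (p - 1 + i)) y = z := by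
        rw [pow_add, Equiv.Perm.mul_apply, hi, ← Equiv.Perm.mul_apply, ← pow_succ,
          Nat.sub_add_cancel hp.one_le, hσ, Equiv.Perm.one_apply]
      exact this ▸ hmemO _
    set S' := S \ O with hS'
    have hlt : S'.card < n := hn ▸ Finset.card_lt_card
      (Finset.sdiff_ssubset hOS ⟨y, hyO⟩)
    obtain ⟨R, hR1, hR2⟩ := ih _ hlt S' rfl fun z hz => by
      rw [Finset.mem_sdiff] at hz ⊢
      exact ⟨hS z hz.1, fun h => hz.2 (hinv z h)⟩
    refine ⟨insert y R, fun z hz => ?_, ?_⟩
    · by_cases hzO : z ∈ O
      · obtain ⟨i, -, hi⟩ := Finset.mem_image.1 hzO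
        exact ⟨y, Finset.mem_insert_self _ _, i, hi⟩
      · obtain ⟨r, hr, hi⟩ := hR1 z (Finset.mem_sdiff.2 ⟨hz, hzO⟩)
        exact ⟨r, Finset.mem_insert_of_mem hr, hi⟩
    have hc1 : (insert y R).card ≤ R.card + 1 := Finset.card_insert_le _ _
    have hc2 : S'.card + O.card = S.card := Finset.card_sdiff_add_card_eq_card hOS
    have hc3 : p ≤ O.card + (p - 1) * (O.filter fun z => σ z = z).card := by
      by_cases hfix : σ y = y
      · have h1 : 0 < (O.filter fun z => σ z = z).card :=
          Finset.card_pos.2 ⟨y, Finset.mem_filter.2 ⟨hyO, hfix⟩⟩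
        have h2 : 0 < O.card := Finset.card_pos.2 ⟨y, hyO⟩
        have h3 := Nat.le_mul_of_pos_right (p - 1) h1
        omega
      · refine le_add_right (le_of_eq ?_)
        rw [hO, Finset.card_image_of_injOn, Finset.card_range]
        intro i hi j hj hij
        by_contra hne
        refine hfix ?_
        have key : ∀ a b : ℕ, a < b → b < p → (σ ^ a) y = (σ ^ b) y → σ y = y := by
          intro a b hab hb he
          have h1 : (σ ^ (b - a)) y = y := by
            refine (σ ^ a).injective ?_
            rw [← Equiv.Perm.mul_apply, ← pow_add, Nat.add_sub_cancel' hab.le]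
            exact he.symm
          have hcop : (b - a).Coprime p := ((hp.coprime_iff_not_dvd).2
            (Nat.not_dvd_of_pos_of_lt (by omega) (by omega))).symm
          obtain ⟨k, hk⟩ := exists_pow_eq_self_of_coprime (x := σ)
            (hcop.coprime_dvd_right (orderOf_dvd_of_pow_eq_one hσ))
          rw [← hk]
          exact Equiv.Perm.pow_apply_eq_self_of_apply_eq_self h1 k
        rcases Nat.lt_or_gt_of_ne hne with h | h
        · exact key i j h (Finset.mem_range.1 hj) hij
        · exact key j i h (Finset.mem_range.1 hi) hij.symm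
    have hc4 : (S'.filter fun z => σ z = z).card + (O.filter fun z => σ z = z).card =
        (S.filter fun z => σ z = z).card := by
      rw [← Finset.card_union_of_disjoint, ← Finset.filter_union, Finset.sdiff_union_of_subset hOS]
      exact Finset.disjoint_filter_filter Finset.sdiff_disjoint
    calc p * (insert y R).card ≤ p * (R.card + 1) := Nat.mul_le_mul_left _ hc1
      _ ≤ _ := by rw [← hc4, ← hc2, mul_add, mul_one, mul_add]; omega

/-- A nonsingular Vandermonde system in a module over a domain has only the zero solution. -/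
theorem eq_zero_of_vandermonde {R M : Type*} [CommRing R] [IsDomain R] [AddCommGroup M]
    [Module R M] {n : ℕ} (hR : ∀ (r : R) (m : M), r • m = 0 → r ≠ 0 → m = 0)
    (mat : Matrix (Fin n) (Fin n) R) (hdet : mat.det ≠ 0) (v : Fin n → M)
    (h : ∀ i, ∑ j, mat i j • v j = 0) : v = 0 := by
  funext l
  refine hR mat.det _ ?_ hdet
  have h1 : ∑ i, mat.adjugate l i • ∑ j, mat i j • v j = 0 :=
    Finset.sum_eq_zero fun i _ => by rw [h, smul_zero]
  simp only [Finset.smul_sum, smul_smul] at h1
  rw [Finset.sum_comm] at h1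
  simp only [← Finset.sum_smul] at h1
  have h2 : ∀ j, ∑ i, mat.adjugate l i * mat i j = if l = j then mat.det else 0 := by
    intro j
    rw [← Matrix.mul_apply, Matrix.adjugate_mul, Matrix.smul_apply, Matrix.one_apply]
    split_ifs <;> simp
  simp only [h2, ite_smul, zero_smul, Finset.sum_ite_eq, Finset.mem_univ, if_true] at h1
  exact h1

variable {k V : Type*} [Field k] [AddCommGroup V] [Module k V] [FiniteDimensional k V]

/-- An injective linear map from a power of a subspace bounds the subspace. -/
theorem mul_finrank_le {n : ℕ} (A : Submodule k V) (T : Fin n → (↥A →ₗ[k] V))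
    (h : ∀ v : Fin n → ↥A, ∑ j, T j (v j) = 0 → v = 0) :
    n * Module.finrank k A ≤ Module.finrank k V := by
  let L : (Fin n → ↥A) →ₗ[k] V := ∑ j, (T j).comp (LinearMap.proj j)
  have hL : Function.Injective L := (injective_iff_map_eq_zero L).2 fun v hv => h v (by
    simpa [L] using hv)
  have := L.finrank_le_finrank_of_injective hL
  rwa [Module.finrank_pi_fintype, Finset.sum_const, Finset.card_univ, Fintype.card_fin,
    smul_eq_mul] at this

end Cfsg.Agent.FixedHalf
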